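import Cfsg.Agent.Lib.Recog.SuzRankThree.ChecksAut

/-!
The automorphism group of the model graph has order at most twice that of Suz (owner: helper4).
-/

set_option autoImplicit false
set_option maxRecDepth 100000

namespace CfsgLib.Recog.SuzRankThree

open CfsgLib.ThreeTrans.CosetIndex

/-- The automorphisms of the graph. -/
def graphAut : Subgroup (Equiv.Perm (Fin D.n)) where
  carrier := {σ | ∀ x y, Adj (σ x) (σ y) ↔ Adj x y}
  one_mem' := fun _ _ => Iff.rfl
  mul_mem' := fun hσ hτ x y => (hσ _ _).trans (hτ x y)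
  inv_mem' := fun {σ} hσ x y => by
    have h := hσ (σ⁻¹ x) (σ⁻¹ y)
    rw [perm_apply_inv, perm_apply_inv] at h
    exact h.symm

theorem G0_le_graphAut : G0 ≤ graphAut := fun _ hg x y => adj_map_iff hg x y

/-- A vertex of the chain. -/
noncomputable def vtx (i : ℕ) : Fin D.n := gperm (chainWords.getD i []) z0

theorem vtx_val {i : ℕ} (hi : i < 5) : (vtx i : ℕ) = chainPts.getD i 0 := by
  obtain ⟨-, hl, h, -⟩ := chain_ok
  have hm : i < ((List.range 5).zip chainWords).length := by simp; omega
  have h' := List.all_eq_true.1 h _ (List.getElem_mem hm)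
  simp only [List.getElem_zip, List.getElem_range, Bool.and_eq_true, Nat.beq_eq] at h'
  rw [vtx, gperm_apply, List.getD_eq_getElem _ _ (by omega : i < chainWords.length)]
  exact h'.1

theorem common_iff {i : ℕ} (hi : i ≤ 5) (y : Fin D.n) :
    commonMask (chainWords.take i) y = true ↔ ∀ j < i, Adj (vtx j) y := by
  obtain ⟨-, hl, -⟩ := chain_ok
  have key : ∀ L : List (List ℕ), commonMask L y = true ↔ ∀ w ∈ L, rowBit w y = true := by
    intro L
    induction L with
    | nil => simp [commonMask]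
    | cons w L ih => simp [commonMask, ih]
  rw [key]
  constructor
  · intro h j hj
    rw [vtx, adj_word, List.getD_eq_getElem _ _ (by omega : j < chainWords.length)]
    exact h _ (List.mem_take_iff_getElem.2 ⟨j, by omega, rfl⟩)
  · intro h w hw
    obtain ⟨j, hj, rfl⟩ := List.mem_take_iff_getElem.1 hw
    have := h j (by omega)
    rwa [vtx, adj_word, List.getD_eq_getElem _ _ (by omega : j < chainWords.length)] at this

/-- The automorphisms fixing the first vertices of the chain. -/
def fixChain (i : ℕ) : Subgroup (Equiv.Perm (Fin D.n)) where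
  carrier := {σ | σ ∈ graphAut ∧ ∀ j < i, σ (vtx j) = vtx j}
  one_mem' := ⟨one_mem _, fun _ _ => rfl⟩
  mul_mem' := fun hσ hτ => ⟨mul_mem hσ.1 hτ.1, fun j hj => by rw [Equiv.Perm.mul_apply, hτ.2 j hj, hσ.2 j hj]⟩
  inv_mem' := fun hσ => ⟨inv_mem hσ.1, fun j hj => Equiv.Perm.inv_eq_iff_eq.2 (hσ.2 j hj).symm⟩

theorem step {i m : ℕ} (T : Fin D.n → Prop) (hT : Nat.card {y // T y} ≤ m)
    (h : ∀ σ ∈ fixChain i, T (σ (vtx i))) : Nat.card (fixChain i) ≤ m * Nat.card (fixChain (i + 1)) := by
  classical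
  let rep : {y // T y} → Equiv.Perm (Fin D.n) := fun y =>
    if hy : ∃ σ ∈ fixChain i, σ (vtx i) = y.1 then hy.choose else 1
  have hrep : ∀ σ ∈ fixChain i, ∀ (hσ : T (σ (vtx i))),
      rep ⟨_, hσ⟩ ∈ fixChain i ∧ rep ⟨_, hσ⟩ (vtx i) = σ (vtx i) := by
    intro σ hs hσ
    have hy : ∃ τ ∈ fixChain i, τ (vtx i) = σ (vtx i) := ⟨σ, hs, rfl⟩
    simp only [rep, dif_pos hy]
    exact hy.choose_spec
  let f : fixChain i → {y // T y} × fixChain (i + 1) := fun σ =>
    (⟨σ.1 (vtx i), h _ σ.2⟩, ⟨(rep ⟨σ.1 (vtx i), h _ σ.2⟩)⁻¹ * σ.1, by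
      obtain ⟨h1, h2⟩ := hrep σ.1 σ.2 (h _ σ.2)
      refine ⟨(mul_mem (inv_mem h1) σ.2).1, fun j hj => ?_⟩
      rcases Nat.lt_succ_iff_lt_or_eq.1 hj with hj | rfl
      · exact (mul_mem (inv_mem h1) σ.2).2 j hj
      · rw [Equiv.Perm.mul_apply, Equiv.Perm.inv_eq_iff_eq]; exact h2.symm⟩)
  have hf : Function.Injective f := fun σ τ e => by
    have e1 := congrArg (fun p => (p.1 : {y // T y})) e
    have e2 := congrArg (fun p => (p.2.1 : Equiv.Perm (Fin D.n))) e
    simp only [f] at e1 e2
    rw [e1] at e2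
    exact Subtype.ext (mul_left_cancel e2)
  calc Nat.card (fixChain i) ≤ Nat.card ({y // T y} × fixChain (i + 1)) := Nat.card_le_card_of_injective f hf
    _ = Nat.card {y // T y} * Nat.card (fixChain (i + 1)) := Nat.card_prod _ _
    _ ≤ _ := Nat.mul_le_mul_right _ hT

theorem card_common (i : ℕ) :
    Nat.card {y : Fin D.n // commonMask (chainWords.take i) y = true} =
      (List.range D.n).countP (commonMask (chainWords.take i)) := by
  classical
  rw [Nat.card_eq_fintype_card, Fintype.card_subtype, List.countP_eq_length_filter,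
    ← List.toFinset_card_of_nodup (List.nodup_range.filter _), ← Finset.card_map Fin.valEmbedding]
  congr 1
  ext c
  simp only [List.mem_toFinset, List.mem_filter, List.mem_range, Finset.mem_map, Finset.mem_filter,
    Finset.mem_univ, true_and, Fin.valEmbedding_apply]
  exact ⟨fun ⟨d, hd, e⟩ => e ▸ ⟨d.2, hd⟩, fun ⟨hc, hm⟩ => ⟨⟨c, hc⟩, hm, rfl⟩⟩

theorem chain_step {i : ℕ} (hi : 0 < i) (hi5 : i < 5) {σ : Equiv.Perm (Fin D.n)} (hσ : σ ∈ fixChain i) :
    commonMask (chainWords.take i) (σ (vtx i)) = true := by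
  obtain ⟨-, hl, h, -⟩ := chain_ok
  have hm : i < ((List.range 5).zip chainWords).length := by simp; omega
  have h' := List.all_eq_true.1 h _ (List.getElem_mem hm)
  simp only [List.getElem_zip, List.getElem_range, Bool.and_eq_true, Bool.or_eq_true, Nat.beq_eq] at h'
  have hv : commonMask (chainWords.take i) (vtx i) = true := by
    rw [vtx_val hi5]
    exact h'.2.resolve_left (by omega)
  rw [common_iff (by omega)] at hv ⊢
  intro j hj
  rw [← hσ.2 j hj]
  exact (hσ.1 _ _).2 (hv j hj)

theorem mask_mem : ∀ (L : List ℕ) (acc : ℕ) (y : ℕ),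
    (L.foldl (fun r x => Nat.lor r (Nat.shiftLeft 1 x)) acc).testBit y = true → acc.testBit y = true ∨ y ∈ L
  | [], _, _, h => Or.inl h
  | x :: L, acc, y, h => by
    rcases mask_mem L _ y h with h | h
    · change (acc ||| 1 <<< x : ℕ).testBit y = true at h
      rw [Nat.testBit_or, Nat.one_shiftLeft, Nat.testBit_two_pow, Bool.or_eq_true, decide_eq_true_eq] at h
      exact h.imp id fun e => (e : x = y) ▸ List.mem_cons_self
    · exact Or.inr (List.mem_cons_of_mem _ h)

theorem pairwise_sep : ∀ {L : List (Bool × ℕ)}, sepOK L = true →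
    L.Pairwise fun u v => u.2 ≤ v.2 ∧ ((u.1 || v.1) = true → u.2 < v.2)
  | [], _ => List.Pairwise.nil
  | [u], _ => List.pairwise_singleton _ _
  | u :: v :: L, h => by
    simp only [sepOK, Bool.and_eq_true, Bool.or_eq_true, Nat.blt_eq, Nat.beq_eq, Bool.not_eq_true'] at h
    have ih := pairwise_sep h.2
    refine List.Pairwise.cons (fun w hw => ?_) ih
    have huv : u.2 < v.2 ∨ (u.2 = v.2 ∧ u.1 = false ∧ v.1 = false) :=
      h.1.imp id fun e => ⟨e.1.1, e.1.2, e.2⟩
    rcases List.mem_cons.1 hw with rfl | hw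
    · rcases huv with e | ⟨e1, e2, e3⟩
      · exact ⟨e.le, fun _ => e⟩
      · exact ⟨e1.le, fun hh => by rw [e2, e3] at hh; simp at hh⟩
    · obtain ⟨q1, q2⟩ := (List.pairwise_cons.1 ih).1 w hw
      rcases huv with e | ⟨e1, e2, e3⟩
      · exact ⟨e.le.trans q1, fun _ => lt_of_lt_of_le e q1⟩
      · refine ⟨e1.le.trans q1, fun hh => ?_⟩
        rw [e2] at hh
        rw [e1]
        exact q2 (by rw [e3]; exact hh)

/-- Whoever fixes the old rows of a stage fixes its new rows. -/
theorem stage_fix {S : List (ℕ × List ℕ) × List ℕ × ℕ × ℕ} (hS : stageOK S = true) {σ : Equiv.Perm (Fin D.n)}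
    (hσ : σ ∈ graphAut) (hfix : ∀ y : Fin D.n, S.2.2.1.testBit y = true → σ y = y) (y : Fin D.n)
    (hy : S.2.2.2.testBit y = true) : σ y = y := by
  obtain ⟨F, ord, K, N⟩ := S
  simp only [stageOK, Bool.and_eq_true] at hS
  obtain ⟨⟨⟨hF, hcov⟩, hord⟩, hsep⟩ := hS
  cases hKy : K.testBit y with
  | true => exact hfix y hKy
  | false =>
  by_contra hne
  have hKz : K.testBit (σ y) = false := by
    cases hz : K.testBit (σ y) with
    | false => rfl
    | true => exact absurd (σ.injective (hfix _ hz)) hne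
  have hmem : ∀ z : Fin D.n, K.testBit z = false → (z : ℕ) ∈ ord := fun z hz => by
    have h := List.all_eq_true.1 hcov z.1 (List.mem_range.2 z.2)
    simp only [Bool.or_eq_true, hz, Bool.false_eq_true, false_or] at h
    exact (mask_mem _ _ _ h).resolve_left (by simp)
  have hsig : sigAt F (σ y : ℕ) = sigAt F (y : ℕ) := by
    refine List.foldl_ext _ _ _ fun a f hf => ?_
    have hfok := List.all_eq_true.1 hF f hf
    simp only [Bool.and_eq_true, Nat.beq_eq] at hfok
    have hfx : σ (gperm f.2 z0) = gperm f.2 z0 := hfix _ (by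
      rw [gperm_apply, show ((z0 : Fin D.n) : ℕ) = 0 from rfl, hfok.2]; exact hfok.1)
    have h := hσ (gperm f.2 z0) y
    rw [hfx, adj_word, adj_word] at h
    rw [Bool.eq_iff_iff.2 h]
  have hp := List.pairwise_map.1 (pairwise_sep hsep)
  have hnn : (y : ℕ) ≠ (σ y : ℕ) := fun e => hne (Fin.ext e.symm)
  have key : ∀ a ∈ ord, ∀ b ∈ ord, a ≠ b → N.testBit a = true → sigAt F a ≠ sigAt F b := by
    have hp' : ord.Pairwise fun a b => (N.testBit a || N.testBit b) = true → sigAt F a ≠ sigAt F b :=
      hp.imp fun {a b} hab hn => (hab.2 hn).ne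
    have : Std.Symm fun a b : ℕ => (N.testBit a || N.testBit b) = true → sigAt F a ≠ sigAt F b :=
      ⟨fun x y hxy hn => (hxy (by rwa [Bool.or_comm] at hn)).symm⟩
    intro a ha b hb hab hn
    exact hp'.forall ha hb hab (by rw [hn]; rfl)
  exact key _ (hmem _ hKy) _ (hmem _ hKz) hnn hy hsig.symm

theorem last_fix {σ : Equiv.Perm (Fin D.n)} (hσ : σ ∈ fixChain 5)
    (h4 : ∀ y : Fin D.n, commonMask chainWords y = true → σ y = y) : σ = 1 := by
  obtain ⟨hlp, hl, -, -, -, hlast⟩ := chain_ok
  have hlast' : ∀ a ∈ lastFour, commonMask chainWords a = true ∧ a < D.n := by decide +kernel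
  have hlink := fun y : Fin D.n => List.all_eq_true.1 stages_link y.1 (List.mem_range.2 y.2)
  have f0 : ∀ y : Fin D.n, stage0.2.2.1.testBit y = true → σ y = y := by
    intro y hy
    have h := hlink y
    simp only [Bool.and_eq_true, Bool.or_eq_true, Bool.not_eq_true', hy, Bool.true_eq_false, false_or] at h
    rcases h.1.1.1 with hc | hc
    · obtain ⟨j, hj, e⟩ := List.getElem_of_mem (List.contains_iff_mem.1 hc)
      rw [hlp] at hj
      have hv : vtx j = y := Fin.ext (by
        rw [vtx_val hj, List.getD_eq_getElem _ _ (by omega : j < chainPts.length)]; exact e)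
      rw [← hv]; exact hσ.2 j hj
    · exact h4 y (hlast' _ (List.contains_iff_mem.1 hc)).1
  have g0 := stage_fix stage0_ok hσ.1 f0
  have f1 : ∀ y : Fin D.n, stage1.2.2.1.testBit y = true → σ y = y := by
    intro y hy
    have h := hlink y
    simp only [Bool.and_eq_true, Bool.or_eq_true, Bool.not_eq_true', hy, Bool.true_eq_false, false_or] at h
    exact h.1.1.2.elim (f0 y) (g0 y)
  have g1 := stage_fix stage1_ok hσ.1 f1
  have f2 : ∀ y : Fin D.n, stage2.2.2.1.testBit y = true → σ y = y := by
    intro y hy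
    have h := hlink y
    simp only [Bool.and_eq_true, Bool.or_eq_true, Bool.not_eq_true', hy, Bool.true_eq_false, false_or] at h
    exact h.1.2.elim (f1 y) (g1 y)
  have g2 := stage_fix stage2_ok hσ.1 f2
  refine Equiv.ext fun y => ?_
  have h := hlink y
  simp only [Bool.and_eq_true, Bool.or_eq_true] at h
  exact h.2.elim (f2 y) (g2 y)

theorem card_last : Nat.card (fixChain 5) ≤ 24 := by
  classical
  obtain ⟨-, hl, -, -, hc, -⟩ := chain_ok
  simp only [List.cons.injEq, and_true] at hc
  have htake : chainWords.take 5 = chainWords := List.take_of_length_le (by omega)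
  have hinv : ∀ σ : fixChain 5, ∀ y : Fin D.n,
      commonMask chainWords y = true ↔ commonMask chainWords (σ.1 y) = true := by
    intro σ y
    have e : ∀ z : Fin D.n, commonMask chainWords z = true ↔ ∀ j < 5, Adj (vtx j) z := fun z => by
      rw [← common_iff le_rfl, htake]
    rw [e, e]
    constructor
    · intro h j hj
      rw [← σ.2.2 j hj]
      exact (σ.2.1 _ _).2 (h j hj)
    · intro h j hj
      have := h j hj
      rw [← σ.2.2 j hj] at this
      exact (σ.2.1 _ _).1 this
  let f : fixChain 5 → Equiv.Perm {y : Fin D.n // commonMask chainWords y = true} := fun σ =>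
    σ.1.subtypePerm fun y => (hinv σ y).symm
  have hf : Function.Injective f := by
    intro σ τ e
    have h1 : (τ⁻¹ * σ).1 = 1 := last_fix (τ⁻¹ * σ).2 fun y hy => by
      have e' := congrArg Subtype.val (Equiv.ext_iff.1 e ⟨y, hy⟩)
      change σ.1 y = τ.1 y at e'
      show (τ.1)⁻¹ (σ.1 y) = y
      rw [e', perm_inv_apply]
    exact (inv_mul_eq_one.1 (Subtype.ext h1)).symm
  refine (Nat.card_le_card_of_injective f hf).trans ?_
  rw [Nat.card_perm, ← htake, card_common, hc.2.2.2.2]
  decide

theorem card_graphAut : Nat.card graphAut ≤ 896690995200 := by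
  obtain ⟨-, -, -, -, hc, -⟩ := chain_ok
  simp only [List.cons.injEq, and_true] at hc
  obtain ⟨c1, c2, c3, c4, -⟩ := hc
  have e0 : Nat.card graphAut ≤ Nat.card (fixChain 0) :=
    Nat.card_le_card_of_injective (fun σ => ⟨σ.1, σ.2, fun j hj => absurd hj (by omega)⟩) fun a b e =>
      Subtype.ext (congrArg Subtype.val e :)
  have s0 : Nat.card (fixChain 0) ≤ 1782 * Nat.card (fixChain 1) :=
    step (fun _ => True) (by
      rw [Nat.card_congr (Equiv.subtypeUnivEquiv fun _ => trivial), Nat.card_eq_fintype_card, Fintype.card_fin]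
      exact le_of_eq rfl) fun _ _ => trivial
  have s : ∀ i m, 0 < i → i < 5 → (List.range D.n).countP (commonMask (chainWords.take i)) = m →
      Nat.card (fixChain i) ≤ m * Nat.card (fixChain (i + 1)) := fun i m hi hi5 hm =>
    step (fun y => commonMask (chainWords.take i) y = true) (by rw [card_common, hm]) fun σ hσ =>
      chain_step hi hi5 hσ
  calc Nat.card graphAut ≤ Nat.card (fixChain 0) := e0
    _ ≤ 1782 * Nat.card (fixChain 1) := s0
    _ ≤ 1782 * (416 * (100 * (36 * (14 * 24)))) := by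
        refine Nat.mul_le_mul_left _ ((s 1 416 (by omega) (by omega) c1).trans (Nat.mul_le_mul_left _ ?_))
        refine (s 2 100 (by omega) (by omega) c2).trans (Nat.mul_le_mul_left _ ?_)
        refine (s 3 36 (by omega) (by omega) c3).trans (Nat.mul_le_mul_left _ ?_)
        exact (s 4 14 (by omega) (by omega) c4).trans (Nat.mul_le_mul_left _ card_last)
    _ = 896690995200 := by norm_num

end CfsgLib.Recog.SuzRankThree
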