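import Cfsg.Agent.Lib.Recog.SuzRankThree.Model

/-!
The orbital graph of valency 416 of a rank three group on 1782 points with stabiliser G₂(4) (owner: helper4).
-/

set_option autoImplicit false

namespace CfsgLib.Recog.SuzRankThree

open CfsgLib.Recog.SporBound

/-- The hypotheses: the group, a point, the identification of its stabiliser, and the two suborbits. -/
structure RankThree (X : Type*) where
  /-- the group -/
  G : Subgroup (Equiv.Perm X)
  /-- the point -/
  a : X
  /-- the stabiliser -/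
  θ : SuzGTwo.P →* Equiv.Perm X
  inj : Function.Injective θ
  range : ∀ g, g ∈ θ.range ↔ g ∈ G ∧ g a = a
  trans : ∀ x, ∃ g ∈ G, g a = x
  card : Nat.card X = 1782
  /-- a point of the short suborbit -/
  b : X
  /-- a point of the long suborbit -/
  c : X
  hb : (Set.range fun p => θ p b).ncard = 416
  hc : (Set.range fun p => θ p c).ncard = 1365

namespace RankThree

variable {X : Type*} (R : RankThree X)

include R in
theorem finite : Finite X := Nat.finite_of_card_ne_zero (by rw [R.card]; norm_num)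

/-- The short suborbit. -/
def O1 : Set X := Set.range fun p => R.θ p R.b

/-- The long suborbit. -/
def O2 : Set X := Set.range fun p => R.θ p R.c

theorem θ_fix (p : SuzGTwo.P) : R.θ p R.a = R.a := ((R.range _).1 ⟨p, rfl⟩).2

theorem θ_mem (p : SuzGTwo.P) : R.θ p ∈ R.G := ((R.range _).1 ⟨p, rfl⟩).1

theorem apply_inv (g : Equiv.Perm X) (x : X) : g (g⁻¹ x) = x := Equiv.apply_symm_apply g x

theorem inv_apply (g : Equiv.Perm X) (x : X) : g⁻¹ (g x) = x := Equiv.symm_apply_apply g x

theorem orbit_inv (x : X) (p : SuzGTwo.P) (y : X) :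
    R.θ p y ∈ (Set.range fun q => R.θ q x) ↔ y ∈ Set.range fun q => R.θ q x := by
  constructor
  · rintro ⟨q, hq⟩
    refine ⟨p⁻¹ * q, ?_⟩
    show R.θ (p⁻¹ * q) x = y
    rw [map_mul, Equiv.Perm.mul_apply, show R.θ q x = R.θ p y from hq, map_inv, inv_apply]
  · rintro ⟨q, rfl⟩
    exact ⟨p * q, by simp only [map_mul, Equiv.Perm.mul_apply]⟩

theorem orbit_eq {x y : X} (h : x ∈ Set.range fun q => R.θ q y) :
    (Set.range fun q => R.θ q x) = Set.range fun q => R.θ q y := by
  obtain ⟨p, rfl⟩ := h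
  ext z
  constructor
  · rintro ⟨q, rfl⟩
    exact ⟨q * p, by simp [map_mul]⟩
  · rintro ⟨q, rfl⟩
    exact ⟨q * p⁻¹, by simp [map_mul]⟩

theorem a_not_O1 : R.a ∉ R.O1 := fun h => by
  have h1 : (Set.range fun q => R.θ q R.a) = {R.a} := by
    ext z; simp [R.θ_fix]
  have := R.orbit_eq h
  rw [h1] at this
  have h2 := congrArg Set.ncard this
  rw [Set.ncard_singleton, R.hb] at h2
  omega

theorem a_not_O2 : R.a ∉ R.O2 := fun h => by
  have h1 : (Set.range fun q => R.θ q R.a) = {R.a} := by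
    ext z; simp [R.θ_fix]
  have := R.orbit_eq h
  rw [h1] at this
  have h2 := congrArg Set.ncard this
  rw [Set.ncard_singleton, R.hc] at h2
  omega

theorem disjoint_O : Disjoint R.O1 R.O2 := by
  rw [Set.disjoint_left]
  intro x h1 h2
  have := ((R.orbit_eq h1).symm.trans (R.orbit_eq h2))
  have h3 := congrArg Set.ncard this
  rw [R.hb, R.hc] at h3
  omega

theorem cover (x : X) : x = R.a ∨ x ∈ R.O1 ∨ x ∈ R.O2 := by
  have := R.finite
  have h : insert R.a (R.O1 ∪ R.O2) = Set.univ := by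
    refine Set.eq_of_subset_of_ncard_le (Set.subset_univ _) ?_
    rw [Set.ncard_univ, R.card, Set.ncard_insert_of_notMem, Set.ncard_union_eq R.disjoint_O]
    · show 1782 ≤ (Set.range fun p => R.θ p R.b).ncard + (Set.range fun p => R.θ p R.c).ncard + 1
      rw [R.hb, R.hc]
    · simp [R.a_not_O1, R.a_not_O2]
  have hx : x ∈ insert R.a (R.O1 ∪ R.O2) := by rw [h]; trivial
  simpa using hx

/-- Adjacency. -/
def Adj (x y : X) : Prop := ∃ g ∈ R.G, g R.a = x ∧ g⁻¹ y ∈ R.O1

theorem adj_iff {g : Equiv.Perm X} (hg : g ∈ R.G) (y : X) : R.Adj (g R.a) y ↔ g⁻¹ y ∈ R.O1 := by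
  refine ⟨?_, fun h => ⟨g, hg, rfl, h⟩⟩
  rintro ⟨g', hg', he, h⟩
  obtain ⟨p, hp⟩ : g⁻¹ * g' ∈ R.θ.range := (R.range _).2 ⟨mul_mem (inv_mem hg) hg', by
    rw [Equiv.Perm.mul_apply, he, inv_apply]⟩
  have h2 := (R.orbit_inv R.b p (g'⁻¹ y)).2 h
  rwa [hp, Equiv.Perm.mul_apply, apply_inv] at h2

theorem adj_map {g : Equiv.Perm X} (hg : g ∈ R.G) {x y : X} (h : R.Adj x y) : R.Adj (g x) (g y) := by
  obtain ⟨g', hg', he, h⟩ := h
  refine ⟨g * g', mul_mem hg hg', by rw [Equiv.Perm.mul_apply, he], ?_⟩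
  rwa [mul_inv_rev, Equiv.Perm.mul_apply, inv_apply]

theorem adj_map_iff {g : Equiv.Perm X} (hg : g ∈ R.G) (x y : X) : R.Adj (g x) (g y) ↔ R.Adj x y :=
  ⟨fun h => by simpa [inv_apply] using R.adj_map (inv_mem hg) h, R.adj_map hg⟩

theorem adj_a (y : X) : R.Adj R.a y ↔ y ∈ R.O1 := by
  have := R.adj_iff (one_mem R.G) y
  simpa using this

theorem b_mem : R.b ∈ R.O1 := ⟨1, by simp⟩

theorem c_mem : R.c ∈ R.O2 := ⟨1, by simp⟩

/-- The orbit of the first point under the stabiliser of one is as large as the other way round. -/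
theorem pair_card {g : Equiv.Perm X} (hg : g ∈ R.G) :
    (Set.range fun p => R.θ p (g⁻¹ R.a)).ncard = (Set.range fun p => R.θ p (g R.a)).ncard := by
  have := R.finite
  have : Finite SuzGTwo.P := Nat.finite_of_card_ne_zero (by rw [card_P]; norm_num)
  let : MulAction SuzGTwo.P X := MulAction.compHom X R.θ
  have hn : ∀ x : X, (Set.range fun p => R.θ p x).ncard = (MulAction.stabilizer SuzGTwo.P x).index := fun x => by
    rw [MulAction.index_stabilizer]
    rfl
  rw [hn, hn]
  have key : ∀ h ∈ R.G, Nat.card (MulAction.stabilizer SuzGTwo.P (h⁻¹ R.a)) ≤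
      Nat.card (MulAction.stabilizer SuzGTwo.P (h R.a)) := by
    intro h hh
    have hq : ∀ p : MulAction.stabilizer SuzGTwo.P (h⁻¹ R.a), ∃ q : SuzGTwo.P, R.θ q = h * R.θ p.1 * h⁻¹ := fun p => by
      refine (R.range _).2 ⟨mul_mem (mul_mem hh (R.θ_mem _)) (inv_mem hh), ?_⟩
      rw [Equiv.Perm.mul_apply, Equiv.Perm.mul_apply, show R.θ p.1 (h⁻¹ R.a) = h⁻¹ R.a from p.2, apply_inv]
    choose q hq using hq
    refine Nat.card_le_card_of_injective (fun p => ⟨q p, ?_⟩) fun p p' hpp => ?_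
    · show R.θ (q p) (h R.a) = h R.a
      rw [hq, Equiv.Perm.mul_apply, inv_apply, Equiv.Perm.mul_apply, R.θ_fix]
    · have h2 := congrArg R.θ (congrArg Subtype.val hpp)
      simp only [hq, mul_left_inj, mul_right_inj] at h2
      exact Subtype.ext (R.inj h2)
  have he : Nat.card (MulAction.stabilizer SuzGTwo.P (g⁻¹ R.a)) =
      Nat.card (MulAction.stabilizer SuzGTwo.P (g R.a)) :=
    le_antisymm (key g hg) (by simpa using key g⁻¹ (inv_mem hg))
  have h1 := (MulAction.stabilizer SuzGTwo.P (g⁻¹ R.a)).index_mul_card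
  have h2 := (MulAction.stabilizer SuzGTwo.P (g R.a)).index_mul_card
  rw [he] at h1
  exact Nat.eq_of_mul_eq_mul_right Nat.card_pos (h1.trans h2.symm)

theorem adj_symm {x y : X} (h : R.Adj x y) : R.Adj y x := by
  obtain ⟨g, hg, rfl, h⟩ := h
  set y' := g⁻¹ y with hy'
  have hgy : g y' = y := apply_inv g y
  obtain ⟨t, ht, hty⟩ := R.trans y'
  have hs : (g * t) R.a = y := by rw [Equiv.Perm.mul_apply, hty, hgy]
  rw [← hs, R.adj_iff (mul_mem hg ht), mul_inv_rev, Equiv.Perm.mul_apply, inv_apply]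
  have hp := R.pair_card ht
  rw [hty, R.orbit_eq h, R.hb] at hp
  rcases R.cover (t⁻¹ R.a) with hc | hc | hc
  · exfalso
    have h1 : (Set.range fun q => R.θ q R.a) = {R.a} := by ext z; simp [R.θ_fix]
    rw [hc, h1, Set.ncard_singleton] at hp
    omega
  · exact hc
  · exfalso
    rw [R.orbit_eq hc, R.hc] at hp
    omega

theorem adj_irrefl (x : X) : ¬ R.Adj x x := by
  rintro ⟨g, hg, rfl, h⟩
  rw [inv_apply] at h
  exact R.a_not_O1 h

theorem adj_θ (p : SuzGTwo.P) (x y : X) : R.Adj (R.θ p x) (R.θ p y) ↔ R.Adj x y :=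
  R.adj_map_iff (R.θ_mem p) x y

theorem degree (x : X) : {y | R.Adj x y}.ncard = 416 := by
  obtain ⟨g, hg, rfl⟩ := R.trans x
  rw [show {y | R.Adj (g R.a) y} = g '' R.O1 by
    ext y
    simp only [Set.mem_ofPred_eq, R.adj_iff hg, Set.mem_image]
    exact ⟨fun h => ⟨_, h, apply_inv g y⟩, fun ⟨z, hz, e⟩ => by rw [← e, inv_apply]; exact hz⟩,
    Set.ncard_image_of_injective _ g.injective]
  exact R.hb

/-- The neighbours of `b` next to the point. -/
noncomputable def lam : ℕ := {y | y ∈ R.O1 ∧ R.Adj R.b y}.ncard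

/-- The neighbours of a far point next to the point. -/
noncomputable def mu (x : X) : ℕ := {y | y ∈ R.O1 ∧ R.Adj x y}.ncard

theorem split (x : X) :
    {y | y ∈ R.O1 ∧ R.Adj x y}.ncard + {y | y ∈ R.O2 ∧ R.Adj x y}.ncard +
      ({y | y = R.a ∧ R.Adj x y} : Set X).ncard = 416 := by
  have := R.finite
  rw [← Set.ncard_union_eq, ← Set.ncard_union_eq, ← R.degree x]
  · congr 1
    ext y
    have := R.cover y
    simp only [Set.mem_union, Set.mem_ofPred_eq]
    tauto
  · rw [Set.disjoint_left]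
    rintro y (⟨h, -⟩ | ⟨h, -⟩) ⟨rfl, -⟩
    · exact R.a_not_O1 h
    · exact R.a_not_O2 h
  · exact Set.disjoint_left.2 fun y h1 h2 => (Set.disjoint_left.1 R.disjoint_O h1.1 h2.1).elim

theorem mu_orbit (p : SuzGTwo.P) (x : X) : R.mu (R.θ p x) = R.mu x := by
  unfold mu
  rw [show {y | y ∈ R.O1 ∧ R.Adj (R.θ p x) y} = R.θ p '' {y | y ∈ R.O1 ∧ R.Adj x y} by
    ext y
    simp only [Set.mem_image, Set.mem_ofPred_eq]
    constructor
    · intro h
      refine ⟨(R.θ p)⁻¹ y, ⟨(R.orbit_inv R.b p _).1 ?_, (R.adj_θ p x _).1 ?_⟩, apply_inv _ _⟩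
      · rw [apply_inv]; exact h.1
      · rw [apply_inv]; exact h.2
    · rintro ⟨z, hz, rfl⟩
      exact ⟨(R.orbit_inv R.b p z).2 hz.1, (R.adj_θ p x z).2 hz.2⟩,
    Set.ncard_image_of_injective _ (R.θ p).injective]

/-- The number of neighbours of `b` in the long suborbit. -/
noncomputable def far : ℕ := {y | y ∈ R.O2 ∧ R.Adj R.b y}.ncard

theorem far_eq : R.lam + R.far = 415 := by
  have h := R.split R.b
  have ha : ({y | y = R.a ∧ R.Adj R.b y} : Set X) = {R.a} := by
    ext y
    simp only [Set.mem_ofPred_eq, Set.mem_singleton_iff]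
    exact ⟨fun h => h.1, fun h => ⟨h, h ▸ R.adj_symm ((R.adj_a _).2 R.b_mem)⟩⟩
  rw [ha, Set.ncard_singleton] at h
  show {y | y ∈ R.O1 ∧ R.Adj R.b y}.ncard + {y | y ∈ R.O2 ∧ R.Adj R.b y}.ncard = 415
  omega

theorem count : 1365 * R.mu R.c = 416 * R.far := by
  classical
  have := R.finite
  have := Fintype.ofFinite X
  let s := Finset.univ.filter (fun x => x ∈ R.O1)
  let t := Finset.univ.filter (fun x => x ∈ R.O2)
  have h := Finset.sum_card_bipartiteAbove_eq_sum_card_bipartiteBelow (fun x y => R.Adj x y) (s := s) (t := t)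
  have h1 : ∀ x ∈ s, (t.bipartiteAbove (fun x y => R.Adj x y) x).card = R.far := by
    intro x hx
    simp only [s, Finset.mem_filter, Finset.mem_univ, true_and] at hx
    obtain ⟨p, rfl⟩ := hx
    have e : (↑(t.bipartiteAbove (fun x y => R.Adj x y) (R.θ p R.b)) : Set X) =
        R.θ p '' {y | y ∈ R.O2 ∧ R.Adj R.b y} := by
      ext y
      simp only [Finset.bipartiteAbove, t, Finset.coe_filter, Finset.mem_filter, Finset.mem_univ, true_and,
        Set.mem_image, Set.mem_ofPred_eq]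
      constructor
      · intro h
        refine ⟨(R.θ p)⁻¹ y, ⟨(R.orbit_inv R.c p _).1 ?_, (R.adj_θ p _ _).1 ?_⟩, apply_inv _ _⟩
        · rw [apply_inv]; exact h.1
        · rw [apply_inv]; exact h.2
      · rintro ⟨z, hz, rfl⟩
        exact ⟨(R.orbit_inv R.c p z).2 hz.1, (R.adj_θ p _ z).2 hz.2⟩
    rw [← Set.ncard_coe_finset, e, Set.ncard_image_of_injective _ (R.θ p).injective]
    rfl
  have h2 : ∀ y ∈ t, (s.bipartiteBelow (fun x y => R.Adj x y) y).card = R.mu R.c := by
    intro y hy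
    simp only [t, Finset.mem_filter, Finset.mem_univ, true_and] at hy
    obtain ⟨p, rfl⟩ := hy
    rw [← R.mu_orbit p R.c, mu, ← Set.ncard_coe_finset]
    congr 1
    ext x
    simp only [Finset.bipartiteBelow, s, Finset.coe_filter, Finset.mem_filter, Finset.mem_univ, true_and,
      Set.mem_ofPred_eq]
    exact ⟨fun h => ⟨h.1, R.adj_symm h.2⟩, fun h => ⟨h.1, R.adj_symm h.2⟩⟩
  rw [Finset.sum_congr rfl h1, Finset.sum_congr rfl h2, Finset.sum_const, Finset.sum_const,
    smul_eq_mul, smul_eq_mul] at h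
  have hs : s.card = 416 := by
    rw [← Set.ncard_coe_finset, show (↑s : Set X) = R.O1 by simp [s]]; exact R.hb
  have ht : t.card = 1365 := by
    rw [← Set.ncard_coe_finset, show (↑t : Set X) = R.O2 by simp [t]]; exact R.hc
  rw [hs, ht] at h
  exact h.symm

theorem lam_ne : R.lam ≠ 415 := by
  classical
  have := R.finite
  have := Fintype.ofFinite X
  intro hlam
  have hfull : ∀ y ∈ R.O1, y ≠ R.b → R.Adj R.b y := by
    intro y hy hne
    have e : {y | y ∈ R.O1 ∧ R.Adj R.b y} = R.O1 \ {R.b} := by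
      refine Set.eq_of_subset_of_ncard_le (fun z hz => ⟨hz.1, fun e => ?_⟩) ?_
      · rw [Set.mem_singleton_iff] at e
        exact R.adj_irrefl R.b (e ▸ hz.2)
      · rw [Set.ncard_sdiff_singleton_of_mem R.b_mem]
        show (Set.range fun p => R.θ p R.b).ncard - 1 ≤ R.lam
        rw [hlam, R.hb]
    have : y ∈ R.O1 \ {R.b} := ⟨hy, hne⟩
    rw [← e] at this
    exact this.2
  have htri : ∀ x y z, R.Adj x y → R.Adj y z → x ≠ z → R.Adj x z := by
    intro x y z hxy hyz hne
    obtain ⟨g, hg, rfl⟩ := R.trans y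
    have hx := (R.adj_iff hg x).1 (R.adj_symm hxy)
    have hz := (R.adj_iff hg z).1 hyz
    obtain ⟨p, hp⟩ := id hx
    obtain ⟨w, hw⟩ : ∃ w, R.θ p w = g⁻¹ z := ⟨(R.θ p)⁻¹ (g⁻¹ z), apply_inv _ _⟩
    have hwne : w ≠ R.b := fun e => hne (by
      have : g⁻¹ x = g⁻¹ z := by rw [← hw, e]; exact hp.symm
      exact g⁻¹.injective this)
    have h := hfull w ((R.orbit_inv R.b p w).1 (hw ▸ hz)) hwne
    have h2 := (R.adj_θ p R.b w).2 h
    rw [hw, show R.θ p R.b = g⁻¹ x from hp] at h2
    exact (R.adj_map_iff (inv_mem hg) x z).1 h2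
  let S : Setoid X :=
    { r := fun x y => x = y ∨ R.Adj x y
      iseqv := ⟨fun x => Or.inl rfl, fun {x y} h => h.elim (fun e => Or.inl e.symm) (fun e => Or.inr (R.adj_symm e)),
        fun {x y z} h1 h2 => by
          rcases h1 with rfl | h1
          · exact h2
          rcases h2 with rfl | h2
          · exact Or.inr h1
          by_cases e : x = z
          · exact Or.inl e
          · exact Or.inr (htri x y z h1 h2 e)⟩ }
  have hcls : ∀ q : Quotient S, Fintype.card {x // Quotient.mk S x = q} = 417 := by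
    intro q
    induction q using Quotient.inductionOn with
    | _ x =>
      rw [← Nat.card_eq_fintype_card]
      have e : Nat.card {y // Quotient.mk S y = Quotient.mk S x} = (insert x {y | R.Adj x y}).ncard := by
        rw [← Nat.card_coe_set_eq]
        refine Nat.card_congr (Equiv.subtypeEquivRight fun y => ?_)
        rw [Quotient.eq]
        show (y = x ∨ R.Adj y x) ↔ _
        simp only [Set.mem_insert_iff, Set.mem_ofPred_eq]
        exact or_congr Iff.rfl ⟨R.adj_symm, R.adj_symm⟩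
      rw [e, Set.ncard_insert_of_notMem (show x ∉ {y | R.Adj x y} from R.adj_irrefl x), R.degree x]
  have hsum : Fintype.card X = ∑ q : Quotient S, Fintype.card {x // Quotient.mk S x = q} := by
    rw [← Fintype.card_sigma]
    exact Fintype.card_congr (Equiv.sigmaFiberEquiv (Quotient.mk S)).symm
  rw [Finset.sum_congr rfl (fun q _ => hcls q), Finset.sum_const, smul_eq_mul, ← Nat.card_eq_fintype_card,
    R.card] at hsum
  omega

theorem mu_of_lam (h : R.lam = 100) : R.mu R.c = 96 := by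
  have h1 := R.count
  have h2 := R.far_eq
  omega

theorem lam_cases : 1365 ∣ 416 * (415 - R.lam) := ⟨R.mu R.c, by
  have h1 := R.count
  have h2 := R.far_eq
  rw [show 415 - R.lam = R.far by omega]
  exact h1.symm⟩

theorem far_two (h : R.lam = 100) : {y | y ∈ R.O2 ∧ R.Adj R.c y}.ncard = 320 := by
  have h1 := R.split R.c
  have h2 := R.mu_of_lam h
  have h3 : ({y | y = R.a ∧ R.Adj R.c y} : Set X) = ∅ := by
    ext y
    simp only [Set.mem_ofPred_eq, Set.mem_empty_iff_false, iff_false]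
    rintro ⟨rfl, hy⟩
    exact Set.disjoint_left.1 R.disjoint_O ((R.adj_a _).1 (R.adj_symm hy)) R.c_mem
  rw [h3, Set.ncard_empty] at h1
  simp only [mu] at h2
  omega

end RankThree

end CfsgLib.Recog.SuzRankThree
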