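import Cfsg.Agent.Lib.Recog.SuzRankThree.Combi
import Cfsg.Agent.Lib.Recog.SuzRankThree.DataAut

/-!
Refinement certificates for the automorphisms of the graph (owner: helper4).
-/

set_option autoImplicit false
set_option maxRecDepth 100000
set_option Elab.async false

namespace CfsgLib.Recog.SuzRankThree

/-- The common neighbours of some vertices, given by words. -/
noncomputable def commonMask : List (List ℕ) → ℕ → Bool
  | [], _ => true
  | w :: L, y => rowBit w y && commonMask L y

/-- The signature of a row at some vertices. -/
noncomputable def sigAt (F : List (ℕ × List ℕ)) (x : ℕ) : ℕ :=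
  F.foldl (fun r f => 2 * r + cond (rowBit f.2 x) 1 0) 0

/-- Consecutive entries: increasing, strictly at the new ones. -/
def sepOK : List (Bool × ℕ) → Bool
  | u :: v :: L => (Nat.blt u.2 v.2 || (Nat.beq u.2 v.2 && !u.1 && !v.1)) && sepOK (v :: L)
  | _ => true

/-- One stage: vertices with their words, the other rows ordered, the fixed ones, the new ones. -/
noncomputable def stageOK (S : List (ℕ × List ℕ) × List ℕ × ℕ × ℕ) : Bool :=
  (S.1.all fun f => S.2.2.1.testBit f.1 && Nat.beq (D.trace 0 f.2) f.1) &&
    ((List.range D.n).all fun y =>
      S.2.2.1.testBit y || (S.2.1.foldl (fun r x => Nat.lor r (Nat.shiftLeft 1 x)) 0).testBit y) &&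
    (S.2.1.all fun x => Nat.blt x D.n && !S.2.2.1.testBit x) &&
    sepOK (S.2.1.map fun x => (S.2.2.2.testBit x, sigAt S.1 x))

theorem chain_ok : chainPts.length = 5 ∧ chainWords.length = 5 ∧
    (((List.range 5).zip chainWords).all fun e => Nat.beq (D.trace 0 e.2) (chainPts.getD e.1 0) &&
      (Nat.beq e.1 0 || commonMask (chainWords.take e.1) (chainPts.getD e.1 0))) = true ∧
    chainPts.getD 0 1 = 0 ∧
    [(List.range D.n).countP (commonMask (chainWords.take 1)), (List.range D.n).countP (commonMask (chainWords.take 2)),
      (List.range D.n).countP (commonMask (chainWords.take 3)), (List.range D.n).countP (commonMask (chainWords.take 4)),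
      (List.range D.n).countP (commonMask (chainWords.take 5))] = [416, 100, 36, 14, 4] ∧
    ((List.range D.n).all fun y => !commonMask chainWords y || lastFour.contains y) = true := by decide +kernel

theorem stage0_ok : stageOK stage0 = true := by decide +kernel

theorem stage1_ok : stageOK stage1 = true := by decide +kernel

theorem stage2_ok : stageOK stage2 = true := by decide +kernel

theorem stages_link : ((List.range D.n).all fun y =>
    (!stage0.2.2.1.testBit y || chainPts.contains y || lastFour.contains y) &&
    (!stage1.2.2.1.testBit y || stage0.2.2.1.testBit y || stage0.2.2.2.testBit y) &&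
    (!stage2.2.2.1.testBit y || stage1.2.2.1.testBit y || stage1.2.2.2.testBit y) &&
    (stage2.2.2.1.testBit y || stage2.2.2.2.testBit y)) = true := by decide +kernel

end CfsgLib.Recog.SuzRankThree
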