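import Cfsg.Agent.Lib.Recog.SuzRankThree.Combi
import Cfsg.Agent.Lib.Recog.SuzRankThree.DataBadA

/-!
A candidate with too many images (owner: helper4).
-/

set_option autoImplicit false
set_option maxRecDepth 100000
set_option Elab.async false

namespace CfsgLib.Recog.SuzRankThree

theorem badA_ok : strictInc (wordsBadA.map fun n => sigOf mBadA prBadA (unpack 24 n)) = true ∧
    Nat.blt 1365 wordsBadA.length = true ∧ (wordsBadA.all fun n => small (unpack 24 n)) = true ∧
    (prBadA.all fun x => Nat.blt x D.n) = true := by decide +kernel

end CfsgLib.Recog.SuzRankThree
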