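import Cfsg.Agent.Lib.Recog.SuzRankThree.Combi
import Cfsg.Agent.Lib.Recog.SuzRankThree.DataBadC

/-!
A candidate with too many images (owner: helper4).
-/

set_option autoImplicit false
set_option maxRecDepth 100000
set_option Elab.async false

namespace CfsgLib.Recog.SuzRankThree

theorem badC_ok : strictInc (wordsBadC.map fun n => sigOf mBadC prBadC (unpack 24 n)) = true ∧
    Nat.blt 1365 wordsBadC.length = true ∧ (wordsBadC.all fun n => small (unpack 24 n)) = true ∧
    (prBadC.all fun x => Nat.blt x D.n) = true := by decide +kernel

end CfsgLib.Recog.SuzRankThree
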