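import Cfsg.Agent.Lib.Recog.SuzRankThree.Combi
import Cfsg.Agent.Lib.Recog.SuzRankThree.DataGood

/-!
Far points have distinct neighbour sets (owner: helper4).
-/

set_option autoImplicit false
set_option maxRecDepth 100000
set_option Elab.async false

namespace CfsgLib.Recog.SuzRankThree

theorem good_sig : strictInc (wordsGood.map fun n => sigOf mGood prGood (unpack 24 n)) = true ∧
    (prGood.all fun x => Nat.blt x D.n) = true := by decide +kernel

theorem good_cover : (wordsGood.foldl (fun r n => Nat.lor r (Nat.shiftLeft 1 (D.trace 1 (unpack 24 n)))) 0) = m2 ∧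
    wordsGood.contains 0 = true ∧ (wordsGood.all fun n => small (unpack 24 n)) = true := by decide +kernel

end CfsgLib.Recog.SuzRankThree
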