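import Cfsg.Agent.Lib.Recog.SuzRankThree.Data

/-!
Group certificates: the Sylow subgroup, the two-group, and the involutions (owner: helper4).
-/

set_option autoImplicit false
set_option maxRecDepth 100000
set_option Elab.async false

namespace CfsgLib.Recog.SuzRankThree

theorem eTab_ok : eTab.ok = true := by decide +kernel

theorem eTab_len : eTab.keys.length = 25 := by decide +kernel

theorem sTab_ok : sTab.ok = true := by decide +kernel

theorem sTab_len : sTab.keys.length = 512 := by decide +kernel

theorem inv_listed : (((List.range sTab.keys.length).zip sTab.words).all fun e =>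
    Nat.beq e.1 sTab.one || !Nat.beq (sTab.run e.1 e.2) sTab.one ||
      certs.any fun c => Nat.beq c.1 e.1) = true := by decide +kernel

/-- The five words over the Sylow generators, their inverses and one more element. -/
noncomputable def five' (r : List ℕ) : List (List ℕ) :=
  [eTab.gens.getD 0 [], (eTab.gens.getD 0 []).reverse, eTab.gens.getD 1 [], (eTab.gens.getD 1 []).reverse, r]

/-- One certificate. -/
noncomputable def certOK (c : ℕ × List ℕ × List ℕ × Bool × List ℕ) : Bool :=
  small c.2.1 && small c.2.2.2.2 && (key c.2.1 == sTab.keys.getD c.1 []) &&
    (c.2.2.1.all fun i => Nat.blt i 5) && (key (expand (five' c.2.1) c.2.2.1) == key c.2.2.2.2) &&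
    cond c.2.2.2.1 ((key (List.flatten (List.replicate 13 c.2.2.2.2)) == base) && !(key c.2.2.2.2 == base))
      (key c.2.2.2.2 == key [0])

theorem certs_ok0 : (certs.take 32).all certOK = true := by decide +kernel

theorem certs_ok1 : (certs.drop 32).all certOK = true := by decide +kernel

theorem five_ok : (((List.range 5).zip fiveWords).all fun e =>
    (e.2.all fun i => Nat.blt i 5) && (key (expand (five' [0]) e.2) == key [e.1])) = true ∧
    fiveWords.length = 5 ∧ eTab.gens.length = 2 := by decide +kernel

end CfsgLib.Recog.SuzRankThree
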