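import Cfsg.Agent.Lib.Recog.SuzRankThree.Data
import Cfsg.Agent.Lib.Recog.SuzRankThree.DataGood
import Cfsg.Agent.Lib.Recog.SuzRankThree.DataBadA
import Cfsg.Agent.Lib.Recog.SuzRankThree.DataBadB
import Cfsg.Agent.Lib.Recog.SuzRankThree.DataBadC

/-!
Orbit certificates (owner: helper4).
-/

set_option autoImplicit false
set_option maxRecDepth 100000
set_option Elab.async false

namespace CfsgLib.Recog.SuzRankThree

/-- The first point. -/
abbrev p1 : ℕ := 995

/-- The far point. -/
abbrev p2 : ℕ := 1

theorem one_ok : (orbsOne.all fun O => Nat.blt O.root D.n) = true ∧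
    (orbsOne.map Orb.root) = [p1] ∧ selMask sixWords orbsOne (orbsOne.map fun _ => true) = m1 := by decide +kernel

theorem two_ok : (orbsTwo.all fun O => Nat.blt O.root D.n) = true ∧
    (orbsTwo.map Orb.root) = [p2] ∧ selMask sixWords orbsTwo (orbsTwo.map fun _ => true) = m2 := by decide +kernel

theorem h_ok : (orbsH.all fun O => Nat.blt O.root D.n) = true ∧
    selMask fiveLetters orbsH (orbsH.map fun _ => true) = m1 ∧
    (fiveLetters.all fun w => small w && Nat.beq (D.trace p1 w) p1) = true := by decide +kernel

theorem h_sel : ((allSel orbsH.length).all fun s =>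
    let k := cnt (selMask fiveLetters orbsH s)
    !Nat.beq ((416 * (415 - k)) % 1365) 0 || Nat.ble 415 k ||
      Nat.beq (selMask fiveLetters orbsH s) mA) = true ∧ cnt mA = 100 := by decide +kernel

theorem s_ok : (orbsS.all fun O => Nat.blt O.root D.n) = true ∧
    selMask sTab.gens orbsS (orbsS.map fun _ => true) = m1 ∧
    (sTab.gens.all fun w => Nat.beq (D.trace p2 w) p2) = true := by decide +kernel

theorem s_sel : ((allSel orbsS.length).all fun s =>
    !Nat.beq (cnt (selMask sTab.gens orbsS s)) 96 ||
      [mGood, mBadA, mBadB, mBadC].any (Nat.beq (selMask sTab.gens orbsS s))) = true ∧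
    mGood = mM ∧ cnt mM = 96 := by decide +kernel

theorem c_ok : (orbsC.all fun O => Nat.blt O.root D.n) = true ∧
    selMask cWords orbsC (orbsC.map fun _ => true) = m2 ∧
    (cWords.all fun w => small w && Nat.beq (D.trace p2 w) p2) = true := by decide +kernel

theorem c_sel : ((allSel orbsC.length).all fun s =>
    !Nat.beq (cnt (selMask cWords orbsC s)) 320 || Nat.beq (selMask cWords orbsC s) mC) = true := by decide +kernel

theorem rows_ok : D.trace 0 wOne = p1 ∧ D.trace 0 wTwo = p2 ∧ rowBit wOne 0 = true ∧
    ((List.range D.n).all fun y =>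
      (mA.testBit y == (m1.testBit y && rowBit wOne y)) && (mM.testBit y == (m1.testBit y && rowBit wTwo y)) &&
      (mC.testBit y == (m2.testBit y && rowBit wTwo y))) = true := by decide +kernel

end CfsgLib.Recog.SuzRankThree
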