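import Cfsg.Agent.Lib.Recog.SuzRankThree.Model

/-!
Invariant sets as unions of listed orbits, adjacency in the model, signatures (owner: helper4).
-/

set_option autoImplicit false
set_option maxRecDepth 20000

namespace CfsgLib.Recog.SuzRankThree

open CfsgLib.ThreeTrans.CosetIndex CfsgLib.Recog.SporBound

theorem perm_apply_inv (g : Equiv.Perm (Fin D.n)) (c : Fin D.n) : g (g⁻¹ c) = c := Equiv.apply_symm_apply g c

theorem perm_inv_apply (g : Equiv.Perm (Fin D.n)) (c : Fin D.n) : g⁻¹ (g c) = c := Equiv.symm_apply_apply g c

/-- An orbit: its root and steps (point, word). -/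
structure Orb where
  /-- the root -/
  root : ℕ
  /-- the steps -/
  reach : List (ℕ × ℕ)

/-- The mask of an orbit. -/
noncomputable def Orb.mask (gs : List (List ℕ)) (O : Orb) : ℕ :=
  OrbitChain.maskFrom D gs O.reach (Nat.shiftLeft 1 O.root)

/-- The union of the selected orbits. -/
noncomputable def selMask (gs : List (List ℕ)) : List Orb → List Bool → ℕ
  | O :: L, b :: s => cond b (Nat.lor (O.mask gs) (selMask gs L s)) (selMask gs L s)
  | _, _ => 0

/-- The number of rows in a mask. -/
noncomputable def cnt (m : ℕ) : ℕ := (List.range D.n).countP m.testBit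

/-- All selections. -/
def allSel : ℕ → List (List Bool)
  | 0 => [[]]
  | k + 1 => (allSel k).flatMap fun s => [false :: s, true :: s]

theorem mem_allSel : ∀ (s : List Bool), s ∈ allSel s.length
  | [] => List.mem_cons_self
  | b :: s => List.mem_flatMap.2 ⟨s, mem_allSel s, by cases b <;> simp⟩

theorem cnt_eq (m : ℕ) : cnt m = Nat.card {c : Fin D.n // m.testBit c = true} := by
  rw [cnt, Nat.card_eq_fintype_card, Fintype.card_subtype, List.countP_eq_length_filter,
    ← List.toFinset_card_of_nodup (List.nodup_range.filter _), ← Finset.card_map Fin.valEmbedding]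
  congr 1
  ext c
  simp only [List.mem_toFinset, List.mem_filter, List.mem_range, Finset.mem_map, Finset.mem_filter,
    Finset.mem_univ, true_and, Fin.valEmbedding_apply]
  exact ⟨fun ⟨hc, hm⟩ => ⟨⟨c, hc⟩, hm, rfl⟩, fun ⟨d, hd, e⟩ => e ▸ ⟨d.2, hd⟩⟩

theorem const_of_mask {α : Type*} (f : Fin D.n → α) (gs : List (List ℕ))
    (hf : ∀ w ∈ gs, ∀ c, f (gperm w c) = f c) (r : α) : ∀ (reach : List (ℕ × ℕ)) (acc : ℕ),
      (∀ c : Fin D.n, acc.testBit c = true → f c = r) → (∀ p, acc.testBit p = true → p < D.n) →
      ∀ c : Fin D.n, (OrbitChain.maskFrom D gs reach acc).testBit c = true → f c = r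
  | [], acc, h, _ => h
  | e :: es, acc, hacc, hlt => by
    refine const_of_mask f gs hf r es _ ?_ ?_
    all_goals
      intro p hp
      cases hb : acc.testBit e.1 with
      | false => rw [hb] at hp; first | exact hacc p hp | exact hlt p hp
      | true =>
        rw [hb] at hp
        change (acc ||| 1 <<< D.trace e.1 (gs.getD e.2 []) : ℕ).testBit _ = true at hp
        rw [Nat.testBit_or, Nat.one_shiftLeft, Nat.testBit_two_pow, Bool.or_eq_true, decide_eq_true_eq] at hp
        rcases hp with hp | hp
        · first | exact hacc p hp | exact hlt p hp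
        have he := gperm_apply (gs.getD e.2 []) ⟨e.1, hlt _ hb⟩
        first
        | (have hp' : gperm (gs.getD e.2 []) ⟨e.1, hlt _ hb⟩ = p := Fin.ext (he.trans hp)
           rw [← hp']
           by_cases hj : e.2 < gs.length
           · rw [List.getD_eq_getElem _ _ hj, hf _ (List.getElem_mem hj)]
             exact hacc _ hb
           · rw [List.getD_eq_default _ _ (by omega)]
             exact hacc _ hb)
        | (rw [← hp, ← he]; exact Fin.isLt _)

/-- An invariant set inside a listed union of orbits is a selection of them. -/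
theorem exists_sel (gs : List (List ℕ)) (L : List Orb) (hroot : (L.all fun O => Nat.blt O.root D.n) = true)
    (U : ℕ) (hU : selMask gs L (L.map fun _ => true) = U) (T : Fin D.n → Bool)
    (hT : ∀ w ∈ gs, ∀ c, T (gperm w c) = T c) (hsub : ∀ c, T c = true → U.testBit c = true) :
    ∃ s ∈ allSel L.length, (∀ c : Fin D.n, T c = (selMask gs L s).testBit c) ∧
      cnt (selMask gs L s) = Nat.card {c : Fin D.n // T c = true} := by
  classical
  set val : Orb → Bool := fun O => if h : O.root < D.n then T ⟨O.root, h⟩ else false with hval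
  have key : ∀ (L : List Orb), (L.all fun O => Nat.blt O.root D.n) = true → ∀ c : Fin D.n,
      ((selMask gs L (L.map fun _ => true)).testBit c = true →
        (selMask gs L (L.map val)).testBit c = T c) ∧
      ((selMask gs L (L.map val)).testBit c = true → (selMask gs L (L.map fun _ => true)).testBit c = true) := by
    intro L hL c
    induction L with
    | nil => simp [selMask]
    | cons O L ih =>
      simp only [List.all_cons, Bool.and_eq_true, Nat.blt_eq] at hL
      obtain ⟨ih1, ih2⟩ := ih hL.2
      have hO : (O.mask gs).testBit c = true → T c = val O := by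
        intro hc
        refine const_of_mask T gs hT (val O) O.reach (Nat.shiftLeft 1 O.root) ?_ ?_ c hc
        · intro d hd
          change (1 <<< O.root : ℕ).testBit d = true at hd
          rw [Nat.one_shiftLeft, Nat.testBit_two_pow, decide_eq_true_eq] at hd
          simp only [hval, dif_pos hL.1]
          exact congrArg T (Fin.ext hd.symm)
        · intro p hp
          change (1 <<< O.root : ℕ).testBit p = true at hp
          rw [Nat.one_shiftLeft, Nat.testBit_two_pow, decide_eq_true_eq] at hp
          omega
      simp only [List.map_cons, selMask, cond_true]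
      change ((_ ||| _ : ℕ).testBit _ = true → _) ∧ (_ → (_ ||| _ : ℕ).testBit _ = true)
      rw [Nat.testBit_or]
      cases hv : val O
      · simp only [cond_false]
        refine ⟨fun h => ?_, fun h => by rw [ih2 h, Bool.or_true]⟩
        rcases (Bool.or_eq_true _ _).mp h with h | h
        · cases hr : (selMask gs L (L.map val)).testBit c
          · rw [hO h, hv]
          · rw [← ih1 (ih2 hr), hr]
        · exact ih1 h
      · simp only [cond_true]
        change (_ → (_ ||| _ : ℕ).testBit _ = _) ∧ ((_ ||| _ : ℕ).testBit _ = true → _)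
        rw [Nat.testBit_or]
        refine ⟨fun h => ?_, fun h => ?_⟩
        · rcases (Bool.or_eq_true _ _).mp h with h | h
          · rw [h, Bool.true_or, hO h, hv]
          · rw [ih1 h]
            cases hm : (O.mask gs).testBit c
            · rfl
            · rw [Bool.true_or, hO hm, hv]
        · rcases (Bool.or_eq_true _ _).mp h with h | h
          · rw [h, Bool.true_or]
          · rw [ih2 h, Bool.or_true]
  have hall : ∀ c : Fin D.n, T c = (selMask gs L (L.map val)).testBit c := by
    intro c
    obtain ⟨h1, h2⟩ := key L hroot c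
    cases hu : (selMask gs L (L.map fun _ => true)).testBit c
    · cases hs : (selMask gs L (L.map val)).testBit c
      · cases hc : T c
        · rfl
        · rw [hU] at hu; exact absurd (hu.symm.trans (hsub c hc)) (by simp)
      · exact absurd (hu.symm.trans (h2 hs)) (by simp)
    · exact (h1 hu).symm
  refine ⟨L.map val, by simpa using mem_allSel (L.map val), hall, ?_⟩
  rw [cnt_eq]
  exact Nat.card_congr (Equiv.subtypeEquivRight fun c => by rw [hall c])

/-- The neighbours of the first row. -/
abbrev m1 : ℕ := Suz1782.mask0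

/-- The other rows. -/
abbrev m2 : ℕ := Suz1782.mask1

theorem masks_closed : ((List.range 6).all fun x => (List.range D.n).all fun c =>
    (m1.testBit (D.trace c [x]) == m1.testBit c) && (m2.testBit (D.trace c [x]) == m2.testBit c)) = true := by
  decide +kernel

theorem masks_cover : ((List.range D.n).all fun c => Nat.beq c 0 || (m1.testBit c != m2.testBit c)) = true ∧
    m1.testBit 0 = false ∧ m2.testBit 0 = false ∧ cnt m1 = 416 ∧ cnt m2 = 1365 := by
  decide +kernel

theorem mem_cover (c : Fin D.n) : c = z0 ∨ (m1.testBit c = true ∧ m2.testBit c = false) ∨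
    (m1.testBit c = false ∧ m2.testBit c = true) := by
  have h := List.all_eq_true.1 masks_cover.1 c.1 (List.mem_range.2 c.2)
  simp only [Bool.or_eq_true, Nat.beq_eq] at h
  rcases h with h | h
  · exact Or.inl (Fin.ext h)
  · revert h
    cases m1.testBit c <;> cases m2.testBit c <;> simp

theorem gperm_single (x : ℕ) : gperm [x] = Data.perm hV x := by simp [gperm]

theorem masks_inv {g : Equiv.Perm (Fin D.n)} (hg : g ∈ φ.range) (c : Fin D.n) :
    m1.testBit (g c) = m1.testBit c ∧ m2.testBit (g c) = m2.testBit c := by
  obtain ⟨p, rfl⟩ := hg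
  revert c
  have hcl : p ∈ Subgroup.closure (Set.range (PresentedGroup.of : Fin 6 → SuzGTwo.P)) := by
    rw [PresentedGroup.closure_range_of]; exact Subgroup.mem_top p
  induction hcl using Subgroup.closure_induction with
  | mem q hq =>
    obtain ⟨y, rfl⟩ := hq
    intro c
    have h := List.all_eq_true.1 (List.all_eq_true.1 masks_closed y.1 (List.mem_range.2 y.2)) c.1
      (List.mem_range.2 c.2)
    simp only [Bool.and_eq_true, beq_iff_eq] at h
    rw [show PresentedGroup.of y = SuzGTwo.aP y.1 by simp [SuzGTwo.aP, SuzGTwo.lett, PresentedGroup.of],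
      φ_aP y.2, ← gperm_single, gperm_apply]
    exact h
  | one => intro c; simp
  | mul u v _ _ i1 i2 =>
    intro c
    rw [map_mul, Equiv.Perm.mul_apply, (i1 _).1, (i1 _).2, (i2 c).1, (i2 c).2]
    exact ⟨rfl, rfl⟩
  | inv u _ i1 =>
    intro c
    have h := i1 ((φ u)⁻¹ c)
    simp only [perm_apply_inv] at h
    rw [map_inv]
    exact ⟨h.1.symm, h.2.symm⟩

/-- Adjacency in the model. -/
def Adj (x y : Fin D.n) : Prop := ∃ g ∈ G0, g z0 = x ∧ m1.testBit ((g⁻¹ y : Fin D.n) : ℕ) = true

theorem adj_iff {g : Equiv.Perm (Fin D.n)} (hg : g ∈ G0) (y : Fin D.n) :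
    Adj (g z0) y ↔ m1.testBit ((g⁻¹ y : Fin D.n) : ℕ) = true := by
  refine ⟨?_, fun h => ⟨g, hg, rfl, h⟩⟩
  rintro ⟨g', hg', he, h⟩
  have hk : g⁻¹ * g' ∈ φ.range := mem_φ_range.2 ⟨mul_mem (inv_mem hg) hg', by
    rw [Equiv.Perm.mul_apply, he, perm_inv_apply]⟩
  have h2 := (masks_inv hk (g'⁻¹ y)).1
  rw [Equiv.Perm.mul_apply, perm_apply_inv] at h2
  rw [h2, h]

theorem adj_map {g : Equiv.Perm (Fin D.n)} (hg : g ∈ G0) {x y : Fin D.n} (h : Adj x y) : Adj (g x) (g y) := by
  obtain ⟨g', hg', he, h⟩ := h
  refine ⟨g * g', mul_mem hg hg', by rw [Equiv.Perm.mul_apply, he], ?_⟩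
  rwa [mul_inv_rev, Equiv.Perm.mul_apply, perm_inv_apply]

theorem adj_map_iff {g : Equiv.Perm (Fin D.n)} (hg : g ∈ G0) (x y : Fin D.n) :
    Adj (g x) (g y) ↔ Adj x y :=
  ⟨fun h => by simpa using adj_map (inv_mem hg) h, adj_map hg⟩

theorem adj_zero (y : Fin D.n) : Adj z0 y ↔ m1.testBit y = true := by
  simpa using adj_iff (one_mem G0) y

/-- The bit of the neighbourhood of the image of the first row under a word. -/
noncomputable def rowBit (w : List ℕ) (y : ℕ) : Bool := m1.testBit (D.trace y w.reverse)

theorem adj_word (w : List ℕ) (y : Fin D.n) : Adj (gperm w z0) y ↔ rowBit w y = true := by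
  rw [adj_iff (gperm_mem w), ← gperm_reverse, gperm_apply]
  rfl

/-- The signature of the image of a mask under a word, at some probes. -/
noncomputable def sigOf (M : ℕ) (pr : List ℕ) (w : List ℕ) : ℕ :=
  pr.foldl (fun r x => 2 * r + cond (M.testBit (D.trace x w.reverse)) 1 0) 0

/-- A strictly increasing list. -/
def strictInc : List ℕ → Bool
  | a :: b :: l => Nat.blt a b && strictInc (b :: l)
  | _ => true

theorem nodup_of_strictInc : ∀ {l : List ℕ}, strictInc l = true → l.Pairwise (· < ·)
  | [], _ => List.Pairwise.nil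
  | [a], _ => List.pairwise_singleton _ _
  | a :: b :: l, h => by
    simp only [strictInc, Bool.and_eq_true, Nat.blt_eq] at h
    have ih := nodup_of_strictInc h.2
    refine List.Pairwise.cons ?_ ih
    intro c hc
    rcases List.mem_cons.1 hc with rfl | hc
    · exact h.1
    · exact h.1.trans ((List.pairwise_cons.1 ih).1 c hc)

/-- A word packed in base eight, letters shifted by one. -/
noncomputable def unpack (fuel n : ℕ) : List ℕ :=
  Nat.rec (motive := fun _ => ℕ → List ℕ) (fun _ => [])
    (fun _ ih n => cond (Nat.beq n 0) [] ((n % 8 - 1) :: ih (n / 8))) fuel n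

end CfsgLib.Recog.SuzRankThree
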