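import Cfsg.Agent.Lib.Recog.SuzRankThree.ChecksGroup
import Cfsg.Agent.Lib.Recog.SuzRankThree.ChecksOrb
import Cfsg.Agent.Lib.Recog.SporBound.Sound

/-!
The subgroups of index 416 of G₂(4) are point stabilisers in the model (owner: helper4).
-/

set_option autoImplicit false
set_option maxRecDepth 100000

namespace CfsgLib.Recog.SuzRankThree

open CfsgLib.Recog.SporBound CfsgLib.ThreeTrans.CosetIndex

/-- The first point. -/
def x1 : Fin D.n := ⟨995, by decide⟩

/-- The far point. -/
def x2 : Fin D.n := ⟨1, by decide⟩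

theorem φ_single {k : ℕ} (hk : k < 6) : φ (SuzGTwo.aP k) = gperm [k] := by rw [φ_aP hk, gperm_single]

theorem elem_single (k : ℕ) : elem [k] = SuzGTwo.aP k := by simp [elem]

theorem elem_reverse (w : List ℕ) : elem w.reverse = (elem w)⁻¹ := by
  unfold elem
  rw [prod_reverse_eq_inv _ SuzGTwo.aP_sq w.reverse]

theorem orbit_of {root : Fin D.n} {L : List Orb} {m : ℕ} (h : (L.all fun O => Nat.blt O.root D.n) = true)
    (hroot : L.map Orb.root = [root.1]) (hm : selMask sixWords L (L.map fun _ => true) = m) (c : Fin D.n)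
    (hc : m.testBit c = true) : ∃ p, φ p root = c := by
  obtain ⟨O, rfl⟩ : ∃ O, L = [O] := List.length_eq_one_iff.1 (by simpa using congrArg List.length hroot)
  simp only [List.map_cons, List.map_nil, List.cons.injEq, and_true] at hroot
  have hsix : ∀ w ∈ sixWords, ∃ k < 6, w = [k] := by decide
  have hinv : ∀ w ∈ sixWords, ∀ d, (∃ p, φ p root = gperm w d) = (∃ p, φ p root = d) := by
    intro w hw d
    obtain ⟨k, hk, rfl⟩ := hsix w hw
    rw [← φ_single hk]
    refine propext ⟨fun ⟨p, hp⟩ => ⟨(SuzGTwo.aP k)⁻¹ * p, ?_⟩, fun ⟨p, hp⟩ => ⟨SuzGTwo.aP k * p, ?_⟩⟩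
    · rw [map_mul, Equiv.Perm.mul_apply, hp, map_inv, perm_inv_apply]
    · rw [map_mul, Equiv.Perm.mul_apply, hp]
  have hc' : (O.mask sixWords).testBit c = true := by
    rw [← hm] at hc
    simpa [selMask] using hc
  have := const_of_mask (fun d => ∃ p, φ p root = d) sixWords hinv True O.reach (Nat.shiftLeft 1 O.root) (fun d hd => by
    change (1 <<< O.root : ℕ).testBit d = true at hd
    rw [Nat.one_shiftLeft, Nat.testBit_two_pow, decide_eq_true_eq] at hd
    exact eq_true ⟨1, by rw [map_one]; exact Fin.ext (hroot.symm.trans hd)⟩) (fun p hp => by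
    change (1 <<< O.root : ℕ).testBit p = true at hp
    rw [Nat.one_shiftLeft, Nat.testBit_two_pow, decide_eq_true_eq] at hp
    rw [← hp, hroot]
    exact root.2) c hc'
  exact of_eq_true this

theorem orbit_one (c : Fin D.n) : m1.testBit c = true ↔ ∃ p, φ p x1 = c := by
  refine ⟨orbit_of (root := x1) one_ok.1 one_ok.2.1 one_ok.2.2 c, ?_⟩
  rintro ⟨p, rfl⟩
  rw [(masks_inv ⟨p, rfl⟩ x1).1]
  decide +kernel

theorem orbit_two (c : Fin D.n) : m2.testBit c = true ↔ ∃ p, φ p x2 = c := by
  refine ⟨orbit_of (root := x2) two_ok.1 two_ok.2.1 two_ok.2.2 c, ?_⟩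
  rintro ⟨p, rfl⟩
  rw [(masks_inv ⟨p, rfl⟩ x2).2]
  decide +kernel

/-- The stabiliser of a row in the six-letter group. -/
noncomputable def stab (x : Fin D.n) : Subgroup SuzGTwo.P :=
  (MulAction.stabilizer (Equiv.Perm (Fin D.n)) x).comap φ

theorem mem_stab {x : Fin D.n} {p : SuzGTwo.P} : p ∈ stab x ↔ φ p x = x := Iff.rfl

theorem index_stab {x : Fin D.n} : (stab x).index = (Set.range fun p => φ p x).ncard := by
  let : MulAction SuzGTwo.P (Fin D.n) := MulAction.compHom _ φ
  rw [show stab x = MulAction.stabilizer SuzGTwo.P x from rfl, MulAction.index_stabilizer]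
  rfl

theorem range_one : (Set.range fun p => φ p x1) = {c : Fin D.n | m1.testBit c = true} := by
  ext c; exact (orbit_one c).symm

theorem range_two : (Set.range fun p => φ p x2) = {c : Fin D.n | m2.testBit c = true} := by
  ext c; exact (orbit_two c).symm

theorem ncard_mask (m : ℕ) : ({c : Fin D.n | m.testBit c = true} : Set _).ncard = cnt m := by
  rw [cnt_eq, ← Nat.card_coe_set_eq]
  rfl

theorem index_stab_one : (stab x1).index = 416 := by
  rw [index_stab, range_one, ncard_mask, masks_cover.2.2.2.1]

theorem index_stab_two : (stab x2).index = 1365 := by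
  rw [index_stab, range_two, ncard_mask, masks_cover.2.2.2.2]

theorem card_of_index {H : Subgroup SuzGTwo.P} {i : ℕ} (h : H.index = i) : i * Nat.card H = 251596800 := by
  rw [← h, H.index_mul_card, card_P]

theorem five_eq_stab {H : Subgroup SuzGTwo.P} (hH : H.index = 416) (h5 : ∀ k < 5, SuzGTwo.aP k ∈ H) :
    H = stab x1 := by
  have : Finite SuzGTwo.P := SuzGTwo.card_P.1
  set H0 := SuzGTwo.sub [0, 1, 2, 3, 4] with hH0
  have hle : H0 ≤ H := (Subgroup.closure_le _).2 (by
    rintro _ ⟨x, hx, rfl⟩
    exact h5 x (by simp at hx; omega))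
  have hle' : H0 ≤ stab x1 := (Subgroup.closure_le _).2 (by
    rintro _ ⟨x, hx, rfl⟩
    have hfix := h_ok.2.2
    have hx5 : x < 5 := by simp at hx; omega
    show φ (SuzGTwo.aP x) x1 = x1
    rw [φ_single (by omega)]
    refine Fin.ext ?_
    rw [gperm_apply]
    have hmem : [x] ∈ fiveLetters := by
      have : ∀ y < 5, [y] ∈ fiveLetters := by decide
      exact this x hx5
    have := List.all_eq_true.1 hfix _ hmem
    simp only [Bool.and_eq_true, Nat.beq_eq] at this
    exact this.2)
  obtain ⟨-, hT⟩ := Cert.card_le SuzGTwo.aP_sq SuzGTwo.aP_eq SuzC.ok H0 ⊤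
    (fun w hw => SuzGTwo.rel_one hw)
    (fun w hw => by
      refine Subgroup.list_prod_mem _ fun g hg => ?_
      obtain ⟨x, hx, rfl⟩ := List.mem_map.1 hg
      exact Subgroup.subset_closure ⟨x, List.contains_iff_mem.1 (List.all_eq_true.1 (List.all_eq_true.1
        (show (SuzC.cert.subs.all fun w => w.all ([0, 1, 2, 3, 4].contains ·)) = true by decide +kernel) w hw) x hx), rfl⟩)
    (by
      rw [← PresentedGroup.closure_range_of, Subgroup.closure_le]
      rintro _ ⟨y, rfl⟩
      refine Subgroup.subset_closure ⟨y.1, ?_, ?_⟩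
      · rw [show SuzC.cert.kl = [0, 1, 2, 3, 4, 5] from rfl]
        fin_cases y <;> simp
      · simp [SuzGTwo.aP, SuzGTwo.lett, PresentedGroup.of])
  rw [Subgroup.card_top, card_P, show SuzC.cert.n = 416 from rfl] at hT
  have h1 := card_of_index hH
  have h2 := card_of_index index_stab_one
  exact (Subgroup.eq_of_le_of_card_ge hle (by omega)).symm.trans (Subgroup.eq_of_le_of_card_ge hle' (by omega))

theorem expand_mem {H : Subgroup SuzGTwo.P} {gs : List (List ℕ)} (hg : ∀ g ∈ gs, elem g ∈ H) :
    ∀ w : List ℕ, elem (expand gs w) ∈ H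
  | [] => by simp [expand, elem]
  | i :: w => by
    rw [show expand gs (i :: w) = gs.getD i [] ++ expand gs w by simp [expand], elem_append]
    refine mul_mem (expand_mem hg w) ?_
    by_cases hi : i < gs.length
    · rw [List.getD_eq_getElem _ _ hi]; exact hg _ (List.getElem_mem hi)
    · rw [List.getD_eq_default _ _ (by omega)]; simp [elem]

theorem small_expand' {gs : List (List ℕ)} (hg : ∀ g ∈ gs, small g = true) (w : List ℕ) :
    small (expand gs w) = true := by
  refine List.all_eq_true.2 fun x hx => ?_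
  obtain ⟨i, -, hi⟩ := List.mem_flatMap.1 hx
  by_cases hl : i < gs.length
  · rw [List.getD_eq_getElem _ _ hl] at hi
    exact List.all_eq_true.1 (hg _ (List.getElem_mem hl)) x hi
  · rw [List.getD_eq_default _ _ (by omega)] at hi
    exact absurd hi List.not_mem_nil

theorem elem_replicate (n : ℕ) (w : List ℕ) : elem (List.flatten (List.replicate n w)) = elem w ^ n := by
  induction n with
  | zero => simp [elem]
  | succ n ih => rw [List.replicate_succ, List.flatten_cons, elem_append, ih, pow_succ]

theorem eTab_gens_small : ∀ g ∈ eTab.gens, small g = true := by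
  have h := eTab_ok
  simp only [FinTable.ok, Bool.and_eq_true] at h
  exact List.all_eq_true.1 h.1.1.1.2

theorem five'_small {r : List ℕ} (hr : small r = true) : ∀ g ∈ five' r, small g = true := by
  have h0 : ∀ i < 2, small (eTab.gens.getD i []) = true := fun i hi => by
    have hl := five_ok.2.2
    rw [List.getD_eq_getElem _ _ (by omega)]
    exact eTab_gens_small _ (List.getElem_mem _)
  have hrev : ∀ w, small w = true → small w.reverse = true := fun w hw =>
    List.all_eq_true.2 fun x hx => List.all_eq_true.1 hw x (List.mem_reverse.1 hx)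
  intro g hg
  simp only [five', List.mem_cons, List.not_mem_nil, or_false] at hg
  rcases hg with rfl | rfl | rfl | rfl | rfl
  exacts [h0 0 (by omega), hrev _ (h0 0 (by omega)), h0 1 (by omega), hrev _ (h0 1 (by omega)), hr]

theorem five'_mem {H : Subgroup SuzGTwo.P} (hE : ∀ g ∈ eTab.gens, elem g ∈ H) {r : List ℕ} (hr : elem r ∈ H) :
    ∀ g ∈ five' r, elem g ∈ H := by
  have h0 : ∀ i < 2, elem (eTab.gens.getD i []) ∈ H := fun i hi => by
    have hl := five_ok.2.2
    rw [List.getD_eq_getElem _ _ (by omega)]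
    exact hE _ (List.getElem_mem _)
  intro g hg
  simp only [five', List.mem_cons, List.not_mem_nil, or_false] at hg
  rcases hg with rfl | rfl | rfl | rfl | rfl
  exacts [h0 0 (by omega), (elem_reverse _).symm ▸ inv_mem (h0 0 (by omega)), h0 1 (by omega),
    (elem_reverse _).symm ▸ inv_mem (h0 1 (by omega)), hr]

/-- An index 416 subgroup containing the Sylow subgroup fixes the first point. -/
theorem eq_stab_of_sylow {H : Subgroup SuzGTwo.P} (hH : H.index = 416) (hE : ∀ g ∈ eTab.gens, elem g ∈ H) :
    H = stab x1 := by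
  classical
  have : Finite SuzGTwo.P := SuzGTwo.card_P.1
  have hcH : Nat.card H = 604800 := by have := card_of_index hH; omega
  obtain ⟨S, hS, hSmem⟩ := FinTable.exists_subgroup sTab_ok
  rw [sTab_len] at hS
  have hrel : (H.subgroupOf S).index ≤ 416 := by
    rw [← hH, ← Subgroup.relIndex_top_right (H := H)]
    exact Subgroup.relIndex_le_of_le_right le_top (by rw [Subgroup.relIndex_top_right, hH]; norm_num)
  have hmul := (H.subgroupOf S).index_mul_card
  rw [hS] at hmul
  have h2 : 2 ∣ Nat.card (H.subgroupOf S) := by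
    obtain ⟨k, -, hk⟩ := (Nat.dvd_prime_pow Nat.prime_two).1
      (show Nat.card (H.subgroupOf S) ∣ 2 ^ 9 by rw [show (2 : ℕ) ^ 9 = 512 by norm_num, ← hmul]; exact dvd_mul_left _ _)
    rcases Nat.eq_zero_or_pos k with rfl | hk0
    · exfalso
      rw [hk, pow_zero, mul_one] at hmul
      omega
    · rw [hk]; exact dvd_pow_self 2 (by omega)
  have : Fact (Nat.Prime 2) := ⟨Nat.prime_two⟩
  obtain ⟨x, hx⟩ := exists_prime_orderOf_dvd_card' 2 h2
  have hxH : (x.1.1 : SuzGTwo.P) ∈ H := x.2
  obtain ⟨j, hj, hxj⟩ := (hSmem _).1 x.1.2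
  have hord : orderOf (x.1.1 : SuzGTwo.P) = 2 := by rw [Subgroup.orderOf_coe, Subgroup.orderOf_coe]; exact hx
  have hsq : sTab.el j * sTab.el j = 1 := by rw [← hxj, ← sq, ← hord, pow_orderOf_eq_one]
  have hne : sTab.el j ≠ 1 := fun e => by rw [← hxj] at e; rw [e, orderOf_one] at hord; omega
  obtain ⟨hkey, hw⟩ := FinTable.el_spec sTab_ok hj
  obtain ⟨c, hc, hcj⟩ : ∃ c ∈ certs, c.1 = j := by
    have hokS := sTab_ok
    simp only [FinTable.ok, Bool.and_eq_true, Nat.beq_eq] at hokS
    have hlen : sTab.words.length = sTab.keys.length := hokS.1.1.1.1.1.1.1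
    have hm : j < ((List.range sTab.keys.length).zip sTab.words).length := by simp; omega
    have h := List.all_eq_true.1 inv_listed _ (List.getElem_mem hm)
    simp only [List.getElem_zip, List.getElem_range, Bool.or_eq_true, Nat.beq_eq, Bool.not_eq_true',
      List.any_eq_true] at h
    rw [← List.getD_eq_getElem (d := []) sTab.words (by omega)] at h
    rcases h with (h | h) | h
    · exact absurd (h ▸ FinTable.el_one sTab_ok) hne
    · exfalso
      refine Nat.ne_of_beq_eq_false h ?_
      have hh : ∀ i ∈ sTab.words.getD j [] ++ sTab.words.getD j [], i < sTab.gens.length := by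
        simpa using hw
      have hrun : sTab.run sTab.one (sTab.words.getD j []) = j := by
        have hr := List.all_eq_true.1 hokS.2 _ (List.getElem_mem hm)
        simp only [List.getElem_zip, List.getElem_range, Bool.and_eq_true, Nat.beq_eq] at hr
        rw [List.getD_eq_getElem _ _ (by omega : j < sTab.words.length)]
        exact hr.2
      have hrr : sTab.run sTab.one (sTab.words.getD j [] ++ sTab.words.getD j []) =
          sTab.run j (sTab.words.getD j []) := by
        rw [FinTable.run, List.foldl_append]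
        exact congrArg (fun t => sTab.run t (sTab.words.getD j [])) hrun
      have e := FinTable.el_expand sTab_ok hh
      rw [hrr, show expand sTab.gens (sTab.words.getD j [] ++ sTab.words.getD j []) =
        expand sTab.gens (sTab.words.getD j []) ++ expand sTab.gens (sTab.words.getD j []) by simp [expand],
        elem_append] at e
      have hlt := (FinTable.key_run sTab_ok _ hh).1
      rw [hrr] at hlt
      have h1 : sTab.one < sTab.keys.length := by simpa using hokS.1.1.1.1.1.2
      exact FinTable.el_inj sTab_ok hlt h1 (e.symm.trans (hsq.trans (FinTable.el_one sTab_ok).symm))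
    · obtain ⟨c, hc, hcj⟩ := h
      exact ⟨c, hc, hcj⟩
  have hcert : certOK c = true := by
    rcases List.mem_append.1 (show c ∈ certs.take 32 ++ certs.drop 32 by rwa [List.take_append_drop]) with h | h
    exacts [List.all_eq_true.1 certs_ok0 c h, List.all_eq_true.1 certs_ok1 c h]
  obtain ⟨cj, r, v, th, vw⟩ := c
  obtain rfl : cj = j := hcj
  simp only [certOK, Bool.and_eq_true, beq_iff_eq] at hcert
  obtain ⟨⟨⟨⟨⟨hr, hvw⟩, hrk⟩, -⟩, hv⟩, hlast⟩ := hcert
  have hrmem : elem r ∈ H := by
    rw [elem_eq_of_key hr (FinTable.small_expand sTab_ok _) (hrk.trans hkey.symm)]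
    show sTab.el cj ∈ H
    rw [← hxj]; exact hxH
  have hvmem : elem vw ∈ H := by
    rw [← elem_eq_of_key (small_expand' (five'_small hr) v) hvw hv]
    exact expand_mem (five'_mem hE hrmem) v
  cases th with
  | true =>
    exfalso
    simp only [cond_true, Bool.and_eq_true, beq_iff_eq, Bool.not_eq_true', beq_eq_false_iff_ne] at hlast
    have hbase : base = key [] := (List.map_id base).symm
    have hs13 : small (List.flatten (List.replicate 13 vw)) = true := List.all_eq_true.2 fun y hy => by
      obtain ⟨l, hl, hy⟩ := List.mem_flatten.1 hy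
      rw [List.eq_of_mem_replicate hl] at hy
      exact List.all_eq_true.1 hvw y hy
    have hpow : elem vw ^ 13 = 1 := by
      rw [← elem_replicate, elem_eq_of_key hs13 (v := []) rfl (hlast.1.trans hbase)]
      simp [elem]
    have hne1 : elem vw ≠ 1 := by
      intro e
      refine hlast.2 ?_
      rw [hbase]
      refine List.map_congr_left fun b hb => ?_
      rw [← gperm_apply _ ⟨b, base_lt b hb⟩, ← gperm_apply _ ⟨b, base_lt b hb⟩, ← φ_elem hvw, e, map_one]
      rfl
    have : Fact (Nat.Prime 13) := ⟨by norm_num⟩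
    have h13 : orderOf (⟨elem vw, hvmem⟩ : H) = 13 := by
      rw [← Subgroup.orderOf_coe]; exact orderOf_eq_prime hpow hne1
    have := orderOf_dvd_natCard (⟨elem vw, hvmem⟩ : H)
    rw [h13, hcH] at this
    norm_num at this
  | false =>
    simp only [cond_false, beq_iff_eq] at hlast
    have h0 : elem [0] ∈ H := elem_eq_of_key hvw (v := [0]) rfl hlast ▸ hvmem
    refine five_eq_stab hH fun k hk => ?_
    obtain ⟨hall, hlen, -⟩ := five_ok
    have hm : k < ((List.range 5).zip fiveWords).length := by simp; omega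
    have h := List.all_eq_true.1 hall _ (List.getElem_mem hm)
    simp only [List.getElem_zip, List.getElem_range, Bool.and_eq_true, beq_iff_eq] at h
    rw [← elem_single, ← elem_eq_of_key (small_expand' (five'_small rfl) _)
      (show small [k] = true by simp [small]; omega) h.2]
    exact expand_mem (five'_mem hE h0) _

/-- Every subgroup of index 416 fixes a point of the short suborbit. -/
theorem exists_fixed {H : Subgroup SuzGTwo.P} (hH : H.index = 416) :
    ∃ x : Fin D.n, m1.testBit x = true ∧ H = stab x := by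
  classical
  have : Finite SuzGTwo.P := SuzGTwo.card_P.1
  obtain ⟨E, hE, hEmem⟩ := FinTable.exists_subgroup eTab_ok
  rw [eTab_len] at hE
  have hcH : Nat.card H = 604800 := by have := card_of_index hH; omega
  have : Fact (Nat.Prime 5) := ⟨by norm_num⟩
  have hfac : ∀ n : ℕ, n = 5 ^ 2 * (n / 25) → ¬ 5 ∣ n / 25 → n ≠ 0 → n.factorization 5 = 2 := by
    intro n hn h5 hn0
    rw [hn, Nat.factorization_mul (by norm_num) (fun e => by rw [e, mul_zero] at hn; exact hn0 hn),
      Finsupp.add_apply, Nat.Prime.factorization_pow (by norm_num), Finsupp.single_eq_same,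
      Nat.factorization_eq_zero_of_not_dvd h5]
  have hfP : (Nat.card SuzGTwo.P).factorization 5 = 2 := by
    rw [card_P]; exact hfac _ (by norm_num) (by norm_num) (by norm_num)
  have hfH : (Nat.card H).factorization 5 = 2 := by
    rw [hcH]; exact hfac _ (by norm_num) (by norm_num) (by norm_num)
  let Q : Sylow 5 H := default
  have hQ : Nat.card ((Q : Subgroup H).map H.subtype) = 25 := by
    rw [Subgroup.card_map_of_injective H.subtype_injective, Q.card_eq_multiplicity, hfH]; norm_num
  let SE : Sylow 5 SuzGTwo.P := Sylow.ofCard E (by rw [hE, hfP]; norm_num)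
  let SQ : Sylow 5 SuzGTwo.P := Sylow.ofCard ((Q : Subgroup H).map H.subtype) (by rw [hQ, hfP]; norm_num)
  obtain ⟨g, hg⟩ := MulAction.exists_smul_eq SuzGTwo.P SE SQ
  set H' := H.map (MulAut.conj g⁻¹).toMonoidHom with hH'
  have hH'i : H'.index = 416 := by
    have h1 : Nat.card H' = 604800 := by
      rw [hH', Subgroup.card_map_of_injective (MulAut.conj g⁻¹).injective, hcH]
    have h2 := H'.index_mul_card
    rw [h1, card_P] at h2
    omega
  have hEH' : ∀ w ∈ eTab.gens, elem w ∈ H' := by
    intro w hw
    obtain ⟨i, hi, rfl⟩ := List.getElem_of_mem hw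
    have hwe : elem eTab.gens[i] ∈ E := by
      have hh : ∀ j ∈ [i], j < eTab.gens.length := by simp [hi]
      refine (hEmem _).2 ⟨_, (FinTable.key_run eTab_ok [i] hh).1, ?_⟩
      rw [← FinTable.el_expand eTab_ok hh]
      simp [expand, List.getElem?_eq_getElem hi]
    have h2 : g * elem eTab.gens[i] * g⁻¹ ∈ (SQ : Subgroup SuzGTwo.P) := by
      rw [← hg]
      exact ⟨_, hwe, rfl⟩
    obtain ⟨q, -, hq⟩ := h2
    refine ⟨g * elem eTab.gens[i] * g⁻¹, (show ((q : H) : SuzGTwo.P) = _ from hq) ▸ q.2, ?_⟩
    simp [mul_assoc]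
  have := eq_stab_of_sylow hH'i hEH'
  refine ⟨φ g x1, (orbit_one _).2 ⟨g, rfl⟩, ?_⟩
  ext p
  have hp : p ∈ H ↔ g⁻¹ * p * g ∈ H' := by
    constructor
    · intro h; exact ⟨p, h, by simp⟩
    · rintro ⟨q, hq, e⟩
      simp only [MulEquiv.coe_toMonoidHom, MulAut.conj_apply, inv_inv, mul_left_inj, mul_right_inj] at e
      exact e ▸ hq
  rw [hp, this, mem_stab, mem_stab, map_mul, map_mul, map_inv, Equiv.Perm.mul_apply, Equiv.Perm.mul_apply,
    Equiv.Perm.inv_eq_iff_eq]

end CfsgLib.Recog.SuzRankThree
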