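import Cfsg.Agent.Lib.Recog.SuzRankThree.Graph
import Cfsg.Agent.Lib.Recog.SuzRankThree.AutBound

/-!
A rank three group as in the hypothesis is the model group, hence Suz (owner: helper4).
-/

set_option autoImplicit false

namespace CfsgLib.Recog.SuzRankThree

open CfsgLib.Recog.SporBound

theorem iso_suz {X : Type*} (R : RankThree X) (hs : IsSimpleGroup Cfsg.Spor.Suz) :
    Nonempty (R.G ≃* Cfsg.Spor.Suz) := by
  classical
  have := R.finite
  obtain ⟨F, hF⟩ := exists_iso R
  let c : Equiv.Perm X →* Equiv.Perm (Fin D.n) := (F.symm.permCongrHom).toMonoidHom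
  set G' := R.G.map c with hG'
  have hcinj : Function.Injective c := (F.symm.permCongrHom).injective
  have hle : G' ≤ graphAut := by
    rintro _ ⟨g, hg, rfl⟩ z w
    exact hF g hg z w
  have hst : Nat.card R.G = 448345497600 := by
    have hfix : ∀ g, g ∈ MulAction.stabilizer R.G R.a ↔ (g.1 : Equiv.Perm X) ∈ R.θ.range := fun g =>
      ⟨fun h => (R.range _).2 ⟨g.2, h⟩, fun h => ((R.range _).1 h).2⟩
    have hs' : Nat.card (MulAction.stabilizer R.G R.a) = 251596800 := by
      rw [← card_P, Nat.card_congr (MonoidHom.ofInjective R.inj).toEquiv]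
      exact Nat.card_congr
        { toFun := fun g => ⟨g.1.1, (hfix g.1).1 g.2⟩
          invFun := fun g => ⟨⟨g.1, ((R.range _).1 g.2).1⟩, (hfix _).2 g.2⟩
          left_inv := fun _ => rfl
          right_inv := fun _ => rfl }
    have huniv : MulAction.orbit R.G R.a = Set.univ := Set.eq_univ_of_forall fun x => by
      obtain ⟨g, hg, e⟩ := R.trans x
      exact ⟨⟨g, hg⟩, e⟩
    rw [← (MulAction.stabilizer R.G R.a).index_mul_card, hs', MulAction.index_stabilizer, huniv, Set.ncard_univ,
      R.card]
  have hcG' : Nat.card G' = 448345497600 := by rw [hG', Subgroup.card_map_of_injective hcinj, hst]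
  have hinj := SuzGroup.card_suz_and_faithful.2.1
  let eG : Cfsg.Spor.Suz ≃* G0 := MonoidHom.ofInjective hinj
  have := hs
  have hsimple : IsSimpleGroup G0 := eG.symm.isSimpleGroup
  have : Finite Cfsg.Spor.Suz := SuzGroup.finite_suz
  -- the intersection has index at most two
  set M := G'.subgroupOf G0 with hM
  have hidx : M.index ≤ 2 := by
    have hrel : G'.relIndex G0 ≤ G'.relIndex graphAut :=
      Subgroup.relIndex_le_of_le_right G0_le_graphAut Subgroup.index_ne_zero_of_finite
    have hm := (G'.subgroupOf graphAut).index_mul_card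
    rw [Nat.card_congr (Subgroup.subgroupOfEquivOfLe hle).toEquiv, hcG'] at hm
    have hA := card_graphAut
    have h2 : (G'.subgroupOf graphAut).index ≤ 2 := by
      rw [← hm] at hA; omega
    exact hrel.trans h2
  have hMtop : M = ⊤ := by
    rcases Nat.lt_or_ge M.index 2 with h | h
    · have h0 : M.index ≠ 0 := Subgroup.index_ne_zero_of_finite
      exact Subgroup.index_eq_one.1 (by omega)
    · have h2 : M.index = 2 := le_antisymm hidx h
      have := Subgroup.normal_of_index_eq_two h2
      rcases IsSimpleGroup.eq_bot_or_eq_top_of_normal M this with e | e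
      · exfalso
        rw [e, Subgroup.index_bot, card_G0] at h2
        omega
      · exact e
  have hle' : G0 ≤ G' := Subgroup.subgroupOf_eq_top.1 hMtop
  have heq : G0 = G' := Subgroup.eq_of_le_of_card_ge hle' (by rw [hcG', card_G0])
  exact ⟨((R.G.equivMapOfInjective c hcinj).trans (MulEquiv.subgroupCongr heq.symm)).trans eG.symm⟩

end CfsgLib.Recog.SuzRankThree
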