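import Cfsg.Agent.Lib.Recog.SuzRankThree.FOne
import Cfsg.Agent.Lib.Recog.SuzRankThree.Abstract
import Cfsg.Agent.Lib.Recog.SuzRankThree.ChecksGood
import Cfsg.Agent.Lib.Recog.SuzRankThree.ChecksBadA
import Cfsg.Agent.Lib.Recog.SuzRankThree.ChecksBadB
import Cfsg.Agent.Lib.Recog.SuzRankThree.ChecksBadC

/-!
The orbital graph of the hypothesis is the graph of the model (owner: helper4).
-/

set_option autoImplicit false
set_option maxRecDepth 100000

namespace CfsgLib.Recog.SuzRankThree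

open CfsgLib.Recog.SporBound CfsgLib.ThreeTrans.CosetIndex

/-- The model as an instance of the hypotheses. -/
noncomputable def R0 : RankThree (Fin D.n) where
  G := G0
  a := z0
  θ := φ
  inj := φ_injective
  range _ := mem_φ_range
  trans x := by
    classical
    have hfix : ∀ g, g ∈ MulAction.stabilizer G0 z0 ↔ (g.1 : Equiv.Perm (Fin D.n)) ∈ φ.range := fun g =>
      ⟨fun h => mem_φ_range.2 ⟨g.2, h⟩, fun h => (mem_φ_range.1 h).2⟩
    have hst : Nat.card (MulAction.stabilizer G0 z0) = 251596800 := by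
      rw [← card_P, Nat.card_congr (MonoidHom.ofInjective φ_injective).toEquiv]
      exact Nat.card_congr
        { toFun := fun g => ⟨g.1.1, (hfix g.1).1 g.2⟩
          invFun := fun g => ⟨⟨g.1, (mem_φ_range.1 g.2).1⟩, (hfix _).2 g.2⟩
          left_inv := fun _ => rfl
          right_inv := fun _ => rfl }
    have h := (MulAction.stabilizer G0 z0).index_mul_card
    rw [hst, card_G0, MulAction.index_stabilizer] at h
    have huniv : MulAction.orbit G0 z0 = Set.univ :=
      Set.eq_of_subset_of_ncard_le (Set.subset_univ _) (by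
        rw [Set.ncard_univ, Nat.card_eq_fintype_card, Fintype.card_fin]
        show 1782 ≤ _
        omega)
    obtain ⟨g, hg⟩ : x ∈ MulAction.orbit G0 z0 := huniv ▸ Set.mem_univ x
    exact ⟨g.1, g.2, hg⟩
  card := by rw [Nat.card_eq_fintype_card, Fintype.card_fin]; rfl
  b := x1
  c := x2
  hb := by rw [range_one, ncard_mask, masks_cover.2.2.2.1]
  hc := by rw [range_two, ncard_mask, masks_cover.2.2.2.2]

theorem R0_adj (x y : Fin D.n) : R0.Adj x y ↔ Adj x y := by
  obtain ⟨g, hg, rfl⟩ := R0.trans x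
  rw [R0.adj_iff hg]
  exact ((adj_iff hg y).trans (orbit_one _)).symm

theorem adj_symm {x y : Fin D.n} (h : Adj x y) : Adj y x :=
  (R0_adj _ _).1 (R0.adj_symm ((R0_adj _ _).2 h))

theorem adj_irrefl (x : Fin D.n) : ¬ Adj x x := fun h => R0.adj_irrefl x ((R0_adj _ _).2 h)

theorem gperm_wOne : gperm wOne z0 = x1 := Fin.ext ((gperm_apply _ _).trans rows_ok.1)

theorem gperm_wTwo : gperm wTwo z0 = x2 := Fin.ext ((gperm_apply _ _).trans rows_ok.2.1)

theorem adj_x1 (y : Fin D.n) (hy : m1.testBit y = true) : Adj x1 y ↔ mA.testBit y = true := by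
  rw [← gperm_wOne, adj_word]
  have h := List.all_eq_true.1 rows_ok.2.2.2 y.1 (List.mem_range.2 y.2)
  simp only [Bool.and_eq_true, beq_iff_eq] at h
  rw [h.1.1, hy, Bool.true_and]

theorem adj_x2_one (y : Fin D.n) (hy : m1.testBit y = true) : Adj x2 y ↔ mM.testBit y = true := by
  rw [← gperm_wTwo, adj_word]
  have h := List.all_eq_true.1 rows_ok.2.2.2 y.1 (List.mem_range.2 y.2)
  simp only [Bool.and_eq_true, beq_iff_eq] at h
  rw [h.1.2, hy, Bool.true_and]

theorem adj_x2_two (y : Fin D.n) (hy : m2.testBit y = true) : Adj x2 y ↔ mC.testBit y = true := by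
  rw [← gperm_wTwo, adj_word]
  have h := List.all_eq_true.1 rows_ok.2.2.2 y.1 (List.mem_range.2 y.2)
  simp only [Bool.and_eq_true, beq_iff_eq] at h
  rw [h.2, hy, Bool.true_and]

theorem mask_lt {gs : List (List ℕ)} {L : List Orb} {s : List Bool} {m : ℕ}
    (hU : selMask gs L s = m) (y : Fin D.n) : (selMask gs L s).testBit y = m.testBit y := by rw [hU]

theorem sigOf_eq {M : ℕ} {pr : List ℕ} {u v : List ℕ} (hu : small u = true) (hv : small v = true)
    (hpr : ∀ x ∈ pr, x < D.n)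
    (h : ∀ y : Fin D.n, M.testBit ((φ (elem u))⁻¹ y : Fin D.n) = M.testBit ((φ (elem v))⁻¹ y : Fin D.n)) :
    sigOf M pr u = sigOf M pr v := by
  unfold sigOf
  refine List.foldl_ext _ _ _ fun a x hx => ?_
  have hh := h ⟨x, hpr x hx⟩
  rw [φ_elem hu, φ_elem hv, ← gperm_reverse, ← gperm_reverse, gperm_apply, gperm_apply] at hh
  rw [hh]

theorem good_inj {p : SuzGTwo.P}
    (h : ∀ y : Fin D.n, mM.testBit ((φ p y : Fin D.n) : ℕ) = mM.testBit y) : φ p x2 = x2 := by
  obtain ⟨hcov, h0, hsm⟩ := good_cover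
  obtain ⟨hinc, hpr⟩ := good_sig
  set z := φ p x2 with hz
  have hz2 : m2.testBit z = true := (orbit_two _).2 ⟨p, rfl⟩
  have key : ∀ (L : List ℕ) (acc : ℕ),
      (L.foldl (fun r n => Nat.lor r (Nat.shiftLeft 1 (D.trace 1 (unpack 24 n)))) acc).testBit z = true →
        acc.testBit z = true ∨ ∃ n ∈ L, D.trace 1 (unpack 24 n) = z := by
    intro L
    induction L with
    | nil => exact fun acc h => Or.inl h
    | cons n L ih =>
      intro acc h
      rcases ih _ h with h | ⟨m, hm, e⟩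
      · change (acc ||| 1 <<< D.trace 1 (unpack 24 n) : ℕ).testBit z = true at h
        rw [Nat.testBit_or, Nat.one_shiftLeft, Nat.testBit_two_pow, Bool.or_eq_true, decide_eq_true_eq] at h
        exact h.imp id fun e => ⟨n, List.mem_cons_self, e⟩
      · exact Or.inr ⟨m, List.mem_cons_of_mem _ hm, e⟩
  rw [← hcov] at hz2
  obtain ⟨n, hn, hnz⟩ : ∃ n ∈ wordsGood, D.trace 1 (unpack 24 n) = z := (key _ _ hz2).resolve_left (by simp)
  set u := unpack 24 n with hu
  have hus : small u = true := List.all_eq_true.1 hsm n hn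
  have huz : φ (elem u) x2 = z := Fin.ext (by rw [φ_elem hus, gperm_apply]; exact hnz)
  set k := (elem u)⁻¹ * p with hk
  have hkfix : φ k x2 = x2 := by
    rw [hk, map_mul, Equiv.Perm.mul_apply, ← hz, map_inv, Equiv.Perm.inv_eq_iff_eq, huz]
  have hkM : ∀ y : Fin D.n, mM.testBit ((φ k y : Fin D.n) : ℕ) = mM.testBit y := by
    intro y
    have hb : ∀ w : Fin D.n, mM.testBit w = (m1.testBit w && rowBit wTwo w) := fun w => by
      have h := List.all_eq_true.1 rows_ok.2.2.2 w.1 (List.mem_range.2 w.2)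
      simp only [Bool.and_eq_true, beq_iff_eq] at h
      exact h.1.2
    rw [hb, hb, (masks_inv ⟨k, rfl⟩ y).1]
    refine congrArg (fun b => m1.testBit (y : ℕ) && b) ?_
    have hG : φ k ∈ G0 := (mem_φ_range.1 ⟨k, rfl⟩).1
    have hh := adj_map_iff hG (gperm wTwo z0) y
    rw [gperm_wTwo, hkfix, ← gperm_wTwo, adj_word, adj_word] at hh
    exact Bool.eq_iff_iff.2 hh
  have hsame : ∀ y : Fin D.n, mM.testBit ((φ (elem u))⁻¹ y : Fin D.n) = mM.testBit y := by
    intro y
    have e : φ p = φ (elem u) * φ k := by rw [hk, ← map_mul, mul_inv_cancel_left]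
    have h1 := h ((φ p)⁻¹ y)
    rw [perm_apply_inv] at h1
    have h2 := hkM ((φ p)⁻¹ y)
    rw [show φ k ((φ p)⁻¹ y) = (φ (elem u))⁻¹ y by
      apply (φ (elem u)).injective
      rw [perm_apply_inv, ← Equiv.Perm.mul_apply, ← e, perm_apply_inv]] at h2
    rw [h2, ← h1]
  have hsig : sigOf mGood prGood u = sigOf mGood prGood [] :=
    sigOf_eq hus rfl (fun x hx => Nat.blt_eq.mp (List.all_eq_true.1 hpr x hx)) (fun y => by
      rw [s_sel.2.1]
      simpa [elem] using hsame y)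
  have hnod := (nodup_of_strictInc hinc).imp fun hab => ne_of_lt hab
  have hn0 : n = 0 := List.inj_on_of_nodup_map hnod hn (List.contains_iff_mem.1 h0) hsig
  subst hn0
  refine Fin.ext ?_
  rw [← hnz]
  rfl

theorem exists_orbitEquiv {X : Type*} (R : RankThree X) (z : Fin D.n) (u : X)
    (h : ∀ p, φ p z = z ↔ R.θ p u = u) :
    ∃ e : Set.range (fun p => φ p z) → X, Function.Injective e ∧
      (∀ p, e ⟨φ p z, p, rfl⟩ = R.θ p u) ∧ ∀ x, x ∈ Set.range (fun p => R.θ p u) ↔ ∃ w, e w = x := by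
  have hiff : ∀ p q, φ p z = φ q z ↔ R.θ p u = R.θ q u := fun p q => by
    have h1 := h (q⁻¹ * p)
    rw [map_mul, map_mul, map_inv, map_inv, Equiv.Perm.mul_apply, Equiv.Perm.mul_apply,
      Equiv.Perm.inv_eq_iff_eq, Equiv.Perm.inv_eq_iff_eq] at h1
    exact h1
  have key : ∀ p, R.θ (⟨φ p z, p, rfl⟩ : Set.range fun p => φ p z).2.choose u = R.θ p u := fun p =>
    (hiff _ _).1 (⟨φ p z, p, rfl⟩ : Set.range fun p => φ p z).2.choose_spec
  refine ⟨fun w => R.θ w.2.choose u, ?_, key, fun x => ⟨?_, ?_⟩⟩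
  · intro w w' e
    exact Subtype.ext ((w.2.choose_spec).symm.trans (((hiff _ _).2 e).trans w'.2.choose_spec))
  · rintro ⟨p, rfl⟩
    exact ⟨⟨φ p z, p, rfl⟩, key p⟩
  · rintro ⟨w, rfl⟩
    exact ⟨_, rfl⟩

section Normalised

variable {X : Type*} (R : RankThree X)

/-- A translated set of neighbours, as a Boolean function on the rows. -/
noncomputable def nbT (z : Fin D.n) (u v : X) : Fin D.n → Bool := fun y =>
  @decide (∃ p, φ p z = y ∧ R.Adj v (R.θ p u)) (Classical.dec _)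

theorem nbT_iff {z : Fin D.n} {u v : X} (y : Fin D.n) :
    nbT R z u v y = true ↔ ∃ p, φ p z = y ∧ R.Adj v (R.θ p u) := by
  simp [nbT]

theorem nbT_inv {z : Fin D.n} {u v : X} {k : SuzGTwo.P} (hk : R.θ k v = v) (y : Fin D.n) :
    nbT R z u v (φ k y) = nbT R z u v y := by
  refine Bool.eq_iff_iff.2 ?_
  rw [nbT_iff, nbT_iff]
  constructor
  · rintro ⟨p, hp, ha⟩
    refine ⟨k⁻¹ * p, by rw [map_mul, Equiv.Perm.mul_apply, hp, map_inv, perm_inv_apply], ?_⟩
    rw [← R.adj_θ k, hk, map_mul, Equiv.Perm.mul_apply, map_inv, RankThree.apply_inv]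
    exact ha
  · rintro ⟨p, hp, ha⟩
    refine ⟨k * p, by rw [map_mul, Equiv.Perm.mul_apply, hp], ?_⟩
    rw [map_mul, Equiv.Perm.mul_apply]
    nth_rewrite 1 [← hk]
    exact (R.adj_θ k _ _).2 ha

theorem nbT_card {z : Fin D.n} {u v : X} (h : ∀ p, φ p z = z ↔ R.θ p u = u) :
    Nat.card {y : Fin D.n // nbT R z u v y = true} =
      {x | x ∈ Set.range (fun p => R.θ p u) ∧ R.Adj v x}.ncard := by
  obtain ⟨e, hinj, he, hr⟩ := exists_orbitEquiv R z u h
  rw [← Nat.card_coe_set_eq]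
  refine (Nat.card_congr (Equiv.ofBijective
    (fun y : {y : Fin D.n // nbT R z u v y = true} =>
      (⟨e ⟨y.1, by obtain ⟨p, hp, -⟩ := (nbT_iff R _).1 y.2; exact ⟨p, hp⟩⟩, by
        obtain ⟨p, hp, ha⟩ := (nbT_iff R _).1 y.2
        have := he p
        simp only [hp] at this
        rw [this]
        exact ⟨⟨p, rfl⟩, ha⟩⟩ : {x | x ∈ Set.range (fun p => R.θ p u) ∧ R.Adj v x})) ⟨?_, ?_⟩))
  · intro y y' hyy
    exact Subtype.ext (congrArg (fun w : Set.range fun p => φ p z => w.1) (hinj (congrArg Subtype.val hyy)))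
  · rintro ⟨x, hx1, hx2⟩
    obtain ⟨w, rfl⟩ := (hr x).1 hx1
    obtain ⟨p, hp⟩ := w.2
    refine ⟨⟨w.1, (nbT_iff R _).2 ⟨p, hp, ?_⟩⟩, Subtype.ext rfl⟩
    rw [← he p]
    exact (congrArg e (Subtype.ext hp : (⟨φ p z, p, rfl⟩ : Set.range fun p => φ p z) = w)).symm ▸ hx2

variable (hbS : ∀ p, φ p x1 = x1 ↔ R.θ p R.b = R.b)
  (hcS : ∀ w ∈ sTab.gens, R.θ (elem w) R.c = R.c)

include hbS

theorem lam_eq : R.lam = 100 ∧ ∀ y, nbT R x1 R.b R.b y = mA.testBit y := by
  have hsub : ∀ y, nbT R x1 R.b R.b y = true → m1.testBit y = true := fun y h => by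
    obtain ⟨p, hp, -⟩ := (nbT_iff R y).1 h
    exact (orbit_one y).2 ⟨p, hp⟩
  have hinv : ∀ w ∈ fiveLetters, ∀ y, nbT R x1 R.b R.b (gperm w y) = nbT R x1 R.b R.b y := by
    intro w hw y
    have h := List.all_eq_true.1 h_ok.2.2 w hw
    simp only [Bool.and_eq_true, Nat.beq_eq] at h
    rw [← φ_elem h.1]
    refine nbT_inv R ((hbS _).1 ?_) y
    rw [φ_elem h.1]
    exact Fin.ext ((gperm_apply _ _).trans h.2)
  obtain ⟨s, hs, hT, hcnt⟩ := exists_sel fiveLetters orbsH h_ok.1 m1 h_ok.2.1 _ hinv hsub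
  have hl : cnt (selMask fiveLetters orbsH s) = R.lam := by rw [hcnt, nbT_card R hbS]; rfl
  have h := List.all_eq_true.1 h_sel.1 s hs
  simp only [Bool.or_eq_true, Bool.not_eq_true', Nat.ble_eq, Nat.beq_eq, hl] at h
  have hd : (416 * (415 - R.lam)) % 1365 = 0 := Nat.mod_eq_zero_of_dvd R.lam_cases
  have hne := R.lam_ne
  have hle := R.far_eq
  rcases h with (h | h) | h
  · exact absurd hd (Nat.ne_of_beq_eq_false h)
  · omega
  · refine ⟨?_, fun y => by rw [hT y, h]⟩
    rw [← hl, h]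
    exact h_sel.2

include hcS

theorem mu_set : ∀ y, nbT R x1 R.b R.c y = mM.testBit y := by
  have hlam := (lam_eq R hbS).1
  have hsub : ∀ y, nbT R x1 R.b R.c y = true → m1.testBit y = true := fun y h => by
    obtain ⟨p, hp, -⟩ := (nbT_iff R y).1 h
    exact (orbit_one y).2 ⟨p, hp⟩
  have hsmall : ∀ w ∈ sTab.gens, small w = true := by
    have h := sTab_ok
    simp only [FinTable.ok, Bool.and_eq_true] at h
    exact List.all_eq_true.1 h.1.1.1.2
  have hinv : ∀ w ∈ sTab.gens, ∀ y, nbT R x1 R.b R.c (gperm w y) = nbT R x1 R.b R.c y := by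
    intro w hw y
    rw [← φ_elem (hsmall w hw)]
    exact nbT_inv R (hcS w hw) y
  obtain ⟨s, hs, hT, hcnt⟩ := exists_sel sTab.gens orbsS s_ok.1 m1 s_ok.2.1 _ hinv hsub
  have hl : cnt (selMask sTab.gens orbsS s) = 96 := by
    rw [hcnt, nbT_card R hbS]; exact R.mu_of_lam hlam
  have h := List.all_eq_true.1 s_sel.1 s hs
  simp only [Bool.or_eq_true, Bool.not_eq_true', hl, List.any_eq_true] at h
  rcases h with h | ⟨M, hM, h⟩
  · exact absurd rfl (Nat.ne_of_beq_eq_false h)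
  have hTM : ∀ y, nbT R x1 R.b R.c y = M.testBit y := fun y => by rw [hT y, Nat.eq_of_beq_eq_true h]
  have bad : ∀ (pr W : List ℕ), strictInc (W.map fun n => sigOf M pr (unpack 24 n)) = true →
      Nat.blt 1365 W.length = true → (W.all fun n => small (unpack 24 n)) = true →
      (pr.all fun x => Nat.blt x D.n) = true → False := by
    intro pr W hinc hlen hsm hpr
    have := R.finite
    have hnod : (W.map fun n => sigOf M pr (unpack 24 n)).Nodup :=
      (nodup_of_strictInc hinc).imp fun hab => ne_of_lt hab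
    have hn : (W.map fun n => R.θ (elem (unpack 24 n)) R.c).Nodup := by
      refine List.Nodup.map_on (fun n hn m hm e => ?_) (List.Nodup.of_map _ hnod)
      refine List.inj_on_of_nodup_map hnod hn hm (sigOf_eq (List.all_eq_true.1 hsm n hn)
        (List.all_eq_true.1 hsm m hm) (fun x hx => Nat.blt_eq.mp (List.all_eq_true.1 hpr x hx)) fun y => ?_)
      have hk : R.θ ((elem (unpack 24 m))⁻¹ * elem (unpack 24 n)) R.c = R.c := by
        rw [map_mul, Equiv.Perm.mul_apply, map_inv, show R.θ (elem (unpack 24 n)) R.c = _ from e,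
          RankThree.inv_apply]
      rw [← hTM, ← hTM, ← nbT_inv R hk ((φ (elem (unpack 24 n)))⁻¹ y), map_mul, Equiv.Perm.mul_apply,
        perm_apply_inv, map_inv]
    classical
    have h1 : (W.map fun n => R.θ (elem (unpack 24 n)) R.c).toFinset.card ≤ 1365 := by
      rw [← R.hc, ← Set.ncard_coe_finset]
      refine Set.ncard_le_ncard (fun x hx => ?_)
      simp only [List.coe_toFinset, Set.mem_ofPred_eq, List.mem_map] at hx
      obtain ⟨n, -, rfl⟩ := hx
      exact ⟨_, rfl⟩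
    rw [List.toFinset_card_of_nodup hn, List.length_map] at h1
    simp only [Nat.blt_eq] at hlen
    omega
  simp only [List.mem_cons, List.not_mem_nil, or_false] at hM
  rcases hM with rfl | rfl | rfl | rfl
  · intro y; rw [hTM y, s_sel.2.1]
  · obtain ⟨q1, q2, q3, q4⟩ := badA_ok; exact (bad _ _ q1 q2 q3 q4).elim
  · obtain ⟨q1, q2, q3, q4⟩ := badB_ok; exact (bad _ _ q1 q2 q3 q4).elim
  · obtain ⟨q1, q2, q3, q4⟩ := badC_ok; exact (bad _ _ q1 q2 q3 q4).elim

theorem stab_c : ∀ p, φ p x2 = x2 ↔ R.θ p R.c = R.c := by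
  have : Finite SuzGTwo.P := SuzGTwo.card_P.1
  let S1 : Subgroup SuzGTwo.P := (MulAction.stabilizer (Equiv.Perm X) R.c).comap R.θ
  have hle : S1 ≤ stab x2 := fun p (hp : R.θ p R.c = R.c) =>
    good_inj fun y => by rw [← mu_set R hbS hcS, ← mu_set R hbS hcS, nbT_inv R hp]
  have hi : S1.index = 1365 := by
    let : MulAction SuzGTwo.P X := MulAction.compHom X R.θ
    rw [show S1 = MulAction.stabilizer SuzGTwo.P R.c from rfl, MulAction.index_stabilizer]
    exact R.hc
  have e : S1 = stab x2 := Subgroup.eq_of_le_of_card_ge hle (by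
    have h1 := card_of_index hi
    have h2 := card_of_index index_stab_two
    omega)
  intro p
  exact (Subgroup.ext_iff.1 e p).symm

theorem far_set : ∀ y, nbT R x2 R.c R.c y = mC.testBit y := by
  have hst := stab_c R hbS hcS
  have hlam := (lam_eq R hbS).1
  have hsub : ∀ y, nbT R x2 R.c R.c y = true → m2.testBit y = true := fun y h => by
    obtain ⟨p, hp, -⟩ := (nbT_iff R y).1 h
    exact (orbit_two y).2 ⟨p, hp⟩
  have hinv : ∀ w ∈ cWords, ∀ y, nbT R x2 R.c R.c (gperm w y) = nbT R x2 R.c R.c y := by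
    intro w hw y
    have h := List.all_eq_true.1 c_ok.2.2 w hw
    simp only [Bool.and_eq_true, Nat.beq_eq] at h
    rw [← φ_elem h.1]
    refine nbT_inv R ((hst _).1 ?_) y
    rw [φ_elem h.1]
    exact Fin.ext ((gperm_apply _ _).trans h.2)
  obtain ⟨s, hs, hT, hcnt⟩ := exists_sel cWords orbsC c_ok.1 m2 c_ok.2.1 _ hinv hsub
  have hl : cnt (selMask cWords orbsC s) = 320 := by
    rw [hcnt, nbT_card R hst]; exact R.far_two hlam
  have h := List.all_eq_true.1 c_sel s hs
  simp only [Bool.or_eq_true, Bool.not_eq_true', hl] at h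
  rcases h with h | h
  · exact absurd rfl (Nat.ne_of_beq_eq_false h)
  · intro y; rw [hT y, Nat.eq_of_beq_eq_true h]

theorem exists_iso_normalised : ∃ F : Fin D.n ≃ X, F z0 = R.a ∧
    (∀ p z, F (φ p z) = R.θ p (F z)) ∧ ∀ z w, R.Adj (F z) (F w) ↔ Adj z w := by
  classical
  have := R.finite
  have hst := stab_c R hbS hcS
  obtain ⟨e1, hi1, he1, hr1⟩ := exists_orbitEquiv R x1 R.b hbS
  obtain ⟨e2, hi2, he2, hr2⟩ := exists_orbitEquiv R x2 R.c hst
  let F : Fin D.n → X := fun z =>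
    if h1 : ∃ p, φ p x1 = z then e1 ⟨z, h1⟩ else if h2 : ∃ p, φ p x2 = z then e2 ⟨z, h2⟩ else R.a
  have hF1 : ∀ p, F (φ p x1) = R.θ p R.b := fun p => by
    simp only [F, dif_pos (show ∃ q, φ q x1 = φ p x1 from ⟨p, rfl⟩)]; exact he1 p
  have hno : ∀ p, ¬ ∃ q, φ q x1 = φ p x2 := fun p h => by
    have h1 := (orbit_one _).2 h
    rcases mem_cover (φ p x2) with e | e | e
    · rw [e] at h1
      exact absurd h1 (by rw [show ((z0 : Fin D.n) : ℕ) = 0 from rfl, masks_cover.2.1]; simp)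
    · rw [(orbit_two _).2 ⟨p, rfl⟩] at e; exact absurd e.2 (by simp)
    · rw [e.1] at h1; exact absurd h1 (by simp)
  have hF2 : ∀ p, F (φ p x2) = R.θ p R.c := fun p => by
    simp only [F, dif_neg (hno p), dif_pos (show ∃ q, φ q x2 = φ p x2 from ⟨p, rfl⟩)]; exact he2 p
  have hfix : ∀ p, φ p z0 = z0 := fun p => (mem_φ_range.1 ⟨p, rfl⟩).2
  have h01 : ¬ ∃ q, φ q x1 = z0 := fun h => by
    have := (orbit_one z0).2 h
    rw [show ((z0 : Fin D.n) : ℕ) = 0 from rfl, masks_cover.2.1] at this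
    exact absurd this (by simp)
  have h02 : ¬ ∃ q, φ q x2 = z0 := fun h => by
    have := (orbit_two z0).2 h
    rw [show ((z0 : Fin D.n) : ℕ) = 0 from rfl, masks_cover.2.2.1] at this
    exact absurd this (by simp)
  have hF0 : F z0 = R.a := by simp only [F, dif_neg h01, dif_neg h02]
  have hcases : ∀ z, z = z0 ∨ (∃ p, z = φ p x1) ∨ ∃ p, z = φ p x2 := fun z => by
    rcases mem_cover z with h | h | h
    · exact Or.inl h
    · obtain ⟨p, hp⟩ := (orbit_one z).1 h.1; exact Or.inr (Or.inl ⟨p, hp.symm⟩)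
    · obtain ⟨p, hp⟩ := (orbit_two z).1 h.2; exact Or.inr (Or.inr ⟨p, hp.symm⟩)
  have hequiv : ∀ p z, F (φ p z) = R.θ p (F z) := by
    intro p z
    rcases hcases z with rfl | ⟨q, rfl⟩ | ⟨q, rfl⟩
    · rw [hfix, hF0, R.θ_fix]
    · rw [← Equiv.Perm.mul_apply, ← map_mul, hF1, hF1, map_mul, Equiv.Perm.mul_apply]
    · rw [← Equiv.Perm.mul_apply, ← map_mul, hF2, hF2, map_mul, Equiv.Perm.mul_apply]
  have hsurj : Function.Surjective F := fun x => by
    rcases R.cover x with rfl | h | h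
    · exact ⟨z0, hF0⟩
    · obtain ⟨p, rfl⟩ := h; exact ⟨_, hF1 p⟩
    · obtain ⟨p, rfl⟩ := h; exact ⟨_, hF2 p⟩
  have hbij : Function.Bijective F := (Nat.bijective_iff_surjective_and_card F).2
    ⟨hsurj, by rw [R.card, Nat.card_eq_fintype_card, Fintype.card_fin]; rfl⟩
  have hFb : F x1 = R.b := by simpa using hF1 1
  have hFc : F x2 = R.c := by simpa using hF2 1
  have base0 : ∀ w, R.Adj R.a (F w) ↔ Adj z0 w := by
    intro w
    rw [adj_zero, R.adj_a, orbit_one]
    rcases hcases w with rfl | ⟨q, rfl⟩ | ⟨q, rfl⟩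
    · rw [hF0]; exact iff_of_false R.a_not_O1 h01
    · rw [hF1]; exact iff_of_true ⟨q, rfl⟩ ⟨q, rfl⟩
    · rw [hF2]
      exact iff_of_false (fun h => Set.disjoint_left.1 R.disjoint_O h ⟨q, rfl⟩) (hno q)
  have symR : ∀ x y, R.Adj x y ↔ R.Adj y x := fun x y => ⟨R.adj_symm, R.adj_symm⟩
  have symM : ∀ x y, Adj x y ↔ Adj y x := fun x y => ⟨adj_symm, adj_symm⟩
  have hG : ∀ p, φ p ∈ G0 := fun p => (mem_φ_range.1 ⟨p, rfl⟩).1
  have b21 : ∀ q, R.Adj R.c (R.θ q R.b) ↔ Adj x2 (φ q x1) := by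
    intro q
    rw [adj_x2_one _ ((orbit_one _).2 ⟨q, rfl⟩), ← mu_set R hbS hcS, nbT_iff]
    constructor
    · exact fun h => ⟨q, rfl, h⟩
    · rintro ⟨p, hp, h⟩
      have := congrArg F hp
      rw [hF1, hF1] at this
      rwa [← this]
  have base1 : ∀ w, R.Adj R.b (F w) ↔ Adj x1 w := by
    intro w
    rcases hcases w with rfl | ⟨q, rfl⟩ | ⟨q, rfl⟩
    · rw [symM, symR, hF0, ← base0, hFb]
    · rw [hF1, adj_x1 _ ((orbit_one _).2 ⟨q, rfl⟩), ← (lam_eq R hbS).2, nbT_iff]
      constructor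
      · exact fun h => ⟨q, rfl, h⟩
      · rintro ⟨p, hp, h⟩
        have := congrArg F hp
        rw [hF1, hF1] at this
        rwa [← this]
    · rw [hF2, symR, symM, ← R.adj_θ q⁻¹, ← adj_map_iff (hG q⁻¹) (φ q x2)]
      rw [← Equiv.Perm.mul_apply, ← map_mul, ← Equiv.Perm.mul_apply, ← map_mul, inv_mul_cancel, map_one, map_one,
        Equiv.Perm.one_apply, Equiv.Perm.one_apply]
      exact b21 q⁻¹
  have base2 : ∀ w, R.Adj R.c (F w) ↔ Adj x2 w := by
    intro w
    rcases hcases w with rfl | ⟨q, rfl⟩ | ⟨q, rfl⟩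
    · rw [symM, symR, hF0, ← base0, hFc]
    · rw [hF1]; exact b21 q
    · rw [hF2, adj_x2_two _ ((orbit_two _).2 ⟨q, rfl⟩), ← far_set R hbS hcS, nbT_iff]
      constructor
      · exact fun h => ⟨q, rfl, h⟩
      · rintro ⟨p, hp, h⟩
        have := congrArg F hp
        rw [hF2, hF2] at this
        rwa [← this]
  refine ⟨Equiv.ofBijective F hbij, hF0, hequiv, fun z w => ?_⟩
  show R.Adj (F z) (F w) ↔ Adj z w
  obtain ⟨w', rfl⟩ : ∃ w', w = w' := ⟨w, rfl⟩
  rcases hcases z with rfl | ⟨q, rfl⟩ | ⟨q, rfl⟩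
  · rw [hF0]; exact base0 w
  all_goals
    have hw : φ q ((φ q)⁻¹ w) = w := perm_apply_inv _ _
    rw [← hw, hequiv, hequiv, R.adj_θ, adj_map_iff (hG q)]
  · rw [hFb]; exact base1 _
  · rw [hFc]; exact base2 _

end Normalised

/-- Any rank three group as in the hypothesis has the graph of the model. -/
theorem exists_iso {X : Type*} (R : RankThree X) : ∃ F : Fin D.n ≃ X, ∀ g ∈ R.G, ∀ z w,
    Adj (F.symm (g (F z))) (F.symm (g (F w))) ↔ Adj z w := by
  classical
  have := R.finite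
  have : Finite SuzGTwo.P := SuzGTwo.card_P.1
  let : MulAction SuzGTwo.P X := MulAction.compHom X R.θ
  have hHb : (MulAction.stabilizer SuzGTwo.P R.b).index = 416 := by
    rw [MulAction.index_stabilizer]; exact R.hb
  obtain ⟨x', hx', hH⟩ := exists_fixed hHb
  obtain ⟨q, hq⟩ := (orbit_one x').1 hx'
  obtain ⟨S, hScard, hS⟩ := FinTable.exists_subgroup sTab_ok
  rw [sTab_len] at hScard
  let O := {x : X // x ∈ R.O2}
  let : MulAction S O :=
    { smul := fun s x => ⟨R.θ s.1 x.1, (R.orbit_inv R.c _ _).2 x.2⟩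
      one_smul := fun x => Subtype.ext (by show R.θ 1 x.1 = x.1; rw [map_one]; rfl)
      mul_smul := fun s t x => Subtype.ext (by
        show R.θ (s.1 * t.1) x.1 = R.θ s.1 (R.θ t.1 x.1)
        rw [map_mul]; rfl) }
  have : Fact (Nat.Prime 2) := ⟨Nat.prime_two⟩
  have hp : IsPGroup 2 S := IsPGroup.of_card (n := 9) (by rw [hScard]; norm_num)
  have hO : Nat.card O = 1365 := (Nat.card_coe_set_eq R.O2).trans R.hc
  obtain ⟨c', hc'⟩ := hp.nonempty_fixed_point_of_prime_not_dvd_card O (by rw [hO]; norm_num)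
  let R' : RankThree X :=
    { R with
      b := R.θ q⁻¹ R.b
      c := c'.1
      hb := by rw [R.orbit_eq ⟨q⁻¹, rfl⟩]; exact R.hb
      hc := by rw [R.orbit_eq c'.2]; exact R.hc }
  have hbS : ∀ p, φ p x1 = x1 ↔ R'.θ p R'.b = R'.b := by
    intro p
    show φ p x1 = x1 ↔ R.θ p (R.θ q⁻¹ R.b) = R.θ q⁻¹ R.b
    have h := SetLike.ext_iff.1 hH (q * p * q⁻¹)
    rw [MulAction.mem_stabilizer_iff, mem_stab, ← hq] at h
    change R.θ (q * p * q⁻¹) R.b = R.b ↔ φ (q * p * q⁻¹) (φ q x1) = φ q x1 at h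
    simp only [map_mul, map_inv, Equiv.Perm.mul_apply, perm_inv_apply] at h
    rw [(φ q).injective.eq_iff] at h
    rw [← h, map_inv]
    exact ⟨fun e => (R.θ q).injective (e.trans (RankThree.apply_inv _ _).symm),
      fun e => by rw [e, RankThree.apply_inv]⟩
  have hcS : ∀ w ∈ sTab.gens, R'.θ (elem w) R'.c = R'.c := by
    intro w hw
    obtain ⟨i, hi, rfl⟩ := List.getElem_of_mem hw
    have hh : ∀ j ∈ [i], j < sTab.gens.length := by simp [hi]
    have hmem : elem sTab.gens[i] ∈ S := by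
      refine (hS _).2 ⟨_, (FinTable.key_run sTab_ok [i] hh).1, ?_⟩
      rw [← FinTable.el_expand sTab_ok hh]
      simp [expand, List.getElem?_eq_getElem hi]
    exact congrArg Subtype.val (hc' ⟨_, hmem⟩)
  obtain ⟨F, -, -, hF⟩ := exists_iso_normalised R' hbS hcS
  have hadj : ∀ x y, R'.Adj x y ↔ R.Adj x y := by
    intro x y
    have : R'.O1 = R.O1 := R.orbit_eq ⟨q⁻¹, rfl⟩
    simp only [RankThree.Adj, this]
    exact Iff.rfl
  refine ⟨F, fun g hg z w => ?_⟩
  rw [← hF, F.apply_symm_apply, F.apply_symm_apply, hadj, R.adj_map_iff hg, ← hadj, hF]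

end CfsgLib.Recog.SuzRankThree
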