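import Cfsg.Agent.Lib.Recog.SporBound.SuzGTwo
import Cfsg.Agent.Lib.Recog.SporBound.SuzGroup

/-!
The model for the rank three recognition of Suz: the six-letter group acting on 1782 rows (owner: helper4).
-/

set_option autoImplicit false
set_option maxRecDepth 20000

namespace CfsgLib.Recog.SuzRankThree

open CfsgLib.ThreeTrans.CosetIndex CfsgLib.Recog.SporBound

/-- The table. -/
abbrev D : Data := Suz1782.data

theorem hV : D.Valid := Suz1782.valid

/-- The permutation of a word, its first letter acting first. -/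
noncomputable def gperm (w : List ℕ) : Equiv.Perm (Fin D.n) := (w.reverse.map (Data.perm hV)).prod

theorem gperm_apply (w : List ℕ) (c : Fin D.n) : ((gperm w c : Fin D.n) : ℕ) = D.trace c w :=
  (Data.trace_eq hV w c).symm

theorem gperm_append (u v : List ℕ) : gperm (u ++ v) = gperm v * gperm u := by
  simp [gperm, List.map_append, List.prod_append]

theorem gperm_reverse (w : List ℕ) : gperm w.reverse = (gperm w)⁻¹ := by
  unfold gperm
  rw [prod_reverse_eq_inv _ (Data.perm_sq hV) w.reverse]

/-- The full group of the model. -/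
noncomputable abbrev G0 : Subgroup (Equiv.Perm (Fin D.n)) := SuzGroup.act.range

theorem act_a (x : ℕ) : SuzGroup.act (SuzGroup.a x) = Data.perm hV x :=
  toPerm_gen Suz1782.valid Cfsg.Agent.S1680.fits x

theorem gperm_mem (w : List ℕ) : gperm w ∈ G0 :=
  Subgroup.list_prod_mem _ fun g hg => by
    obtain ⟨x, -, rfl⟩ := List.mem_map.1 hg
    exact ⟨SuzGroup.a x, act_a x⟩

theorem card_G0 : Nat.card G0 = 448345497600 := by
  obtain ⟨h1, h2, -⟩ := SuzGroup.card_suz_and_faithful
  rw [← h1]
  exact Nat.card_congr (MonoidHom.ofInjective h2).symm.toEquiv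

/-- The base points of the orbit chain. -/
def base : List ℕ := [0, 1, 16, 29, 30, 228, 51, 304, 2]

/-- The images of the base points under a word. -/
noncomputable def key (w : List ℕ) : List ℕ := base.map fun b => D.trace b w

open OrbitChain in
theorem card_fixSet_mul : ∀ (ls : List Level) (pre : List ℕ), chainOK D pre ls = true →
    total ls * Nat.card (fixSet SuzGroup.act (pre ++ ls.map Level.pt)) ≤ Nat.card (fixSet SuzGroup.act pre)
  | [], pre, _ => by simp [total]
  | l :: ls, pre, h => by
    classical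
    simp only [chainOK, levelOK, Bool.and_eq_true, Nat.ble_eq, List.all_eq_true, Nat.beq_eq] at h
    obtain ⟨⟨⟨hlt, hfix⟩, hsz⟩, hrest⟩ := h
    have ih := card_fixSet_mul ls (pre ++ [l.pt]) hrest
    let b : Fin D.n := ⟨l.pt, by simpa using hlt⟩
    set m := maskFrom D l.gens l.reach (Nat.shiftLeft 1 l.pt)
    have hex : ∀ c : {c : Fin D.n // m.testBit c = true}, ∃ g ∈ fixSet SuzGroup.act pre, g b = c.1 := fun c => by
      obtain ⟨g, hg, hg'⟩ := exists_of_mask hV SuzGroup.act act_a hfix b l.reach (Nat.shiftLeft 1 l.pt) (by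
        intro p hp
        change (1 <<< l.pt : ℕ).testBit p = true at hp
        rw [Nat.one_shiftLeft, Nat.testBit_two_pow, decide_eq_true_eq] at hp
        exact ⟨1, one_mem _, hp⟩) c.1 c.2
      exact ⟨g, hg, Fin.ext hg'⟩
    choose g hg hgb using hex
    let F : {c : Fin D.n // m.testBit c = true} × fixSet SuzGroup.act (pre ++ [l.pt]) →
        fixSet SuzGroup.act pre := fun p =>
      ⟨g p.1 * p.2.1, mul_mem (hg p.1) ⟨p.2.2.1, fun c hc => p.2.2.2 c (List.mem_append_left _ hc)⟩⟩
    have hF : Function.Injective F := by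
      intro p q hpq
      have e := congrArg Subtype.val hpq
      have e' := congrArg (fun s : Equiv.Perm (Fin D.n) => s b) e
      simp only [F, Equiv.Perm.mul_apply, p.2.2.2 b (by simp [b]), q.2.2.2 b (by simp [b]), hgb] at e'
      have e1 := Subtype.ext e'
      simp only [F, e1] at e
      exact Prod.ext e1 (Subtype.ext (mul_left_cancel e))
    have hcard : (List.range D.n).countP m.testBit = Nat.card {c : Fin D.n // m.testBit c = true} := by
      rw [Nat.card_eq_fintype_card, Fintype.card_subtype, List.countP_eq_length_filter,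
        ← List.toFinset_card_of_nodup (List.nodup_range.filter _),
        ← Finset.card_map Fin.valEmbedding]
      congr 1
      ext c
      simp only [List.mem_toFinset, List.mem_filter, List.mem_range, Finset.mem_map, Finset.mem_filter,
        Finset.mem_univ, true_and, Fin.valEmbedding_apply]
      exact ⟨fun ⟨hc, hm⟩ => ⟨⟨c, hc⟩, hm, rfl⟩, fun ⟨d, hd, e⟩ => e ▸ ⟨d.2, hd⟩⟩
    rw [List.map_cons, show pre ++ l.pt :: ls.map Level.pt = (pre ++ [l.pt]) ++ ls.map Level.pt by simp,
      show total (l :: ls) = l.size * total ls from rfl, mul_assoc]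
    calc l.size * _ ≤ Nat.card {c : Fin D.n // m.testBit c = true} *
          Nat.card (fixSet SuzGroup.act (pre ++ [l.pt])) := Nat.mul_le_mul (hsz.trans hcard.le) ih
      _ = Nat.card ({c : Fin D.n // m.testBit c = true} × fixSet SuzGroup.act (pre ++ [l.pt])) :=
        (Nat.card_prod _ _).symm
      _ ≤ _ := Nat.card_le_card_of_injective F hF

theorem base_pts : SuzChain.levels.map OrbitChain.Level.pt = base := by decide +kernel

/-- Only the identity of the model fixes the base points. -/
theorem eq_one_of_base {g : Equiv.Perm (Fin D.n)} (hg : g ∈ G0)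
    (h : ∀ c : Fin D.n, (c : ℕ) ∈ base → g c = c) : g = 1 := by
  have hb := card_fixSet_mul SuzChain.levels [] SuzChain.chain_ok
  rw [SuzChain.total_eq, List.nil_append, base_pts] at hb
  have hle : Nat.card (OrbitChain.fixSet SuzGroup.act ([] : List ℕ)) ≤ 448345497600 := by
    rw [← card_G0]
    exact Nat.card_le_card_of_injective (fun g => (⟨g.1, g.2.1⟩ : G0)) fun _ _ e =>
      Subtype.ext (congrArg Subtype.val e :)
  have h1 : Nat.card (OrbitChain.fixSet SuzGroup.act base) = 1 := by
    have := Nat.le_of_mul_le_mul_left (hb.trans hle |>.trans_eq (mul_one _).symm) (by norm_num)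
    have hp : 0 < Nat.card (OrbitChain.fixSet SuzGroup.act base) := Nat.card_pos
    omega
  have := (Nat.card_eq_one_iff_unique.1 h1).1
  exact congrArg Subtype.val (Subsingleton.elim (⟨g, hg, h⟩ : OrbitChain.fixSet SuzGroup.act base) 1)

theorem eq_of_base {g g' : Equiv.Perm (Fin D.n)} (hg : g ∈ G0) (hg' : g' ∈ G0)
    (h : ∀ c : Fin D.n, (c : ℕ) ∈ base → g c = g' c) : g = g' :=
  inv_mul_eq_one.1 (eq_one_of_base (mul_mem (inv_mem hg) hg') fun c hc => by
    rw [Equiv.Perm.mul_apply, Equiv.Perm.inv_eq_iff_eq, h c hc])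

theorem base_lt : ∀ b ∈ base, b < D.n := by decide

theorem gperm_eq_of_key {u v : List ℕ} (h : key u = key v) : gperm u = gperm v :=
  eq_of_base (gperm_mem u) (gperm_mem v) fun c hc => Fin.ext <| by
    rw [gperm_apply, gperm_apply]
    exact List.map_inj_left.1 h c hc

/-- The first row. -/
def z0 : Fin D.n := ⟨0, by decide⟩

theorem exists_phi : ∃ φ : SuzGTwo.P →* Equiv.Perm (Fin D.n), Function.Injective φ ∧
    (∀ x, x < 6 → φ (SuzGTwo.aP x) = Data.perm hV x) ∧
    ∀ g, g ∈ φ.range ↔ g ∈ G0 ∧ g z0 = z0 := by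
  obtain ⟨ψ, hψ⟩ := SuzGTwo.exists_hom SuzGroup.a fun w hw =>
    relWord_one SuzGroup.nodes
      (List.contains_iff_mem.1 (List.all_eq_true.1 SuzGTwo.suz_rels_check w hw))
  have hfin := SuzGTwo.card_P.1
  obtain ⟨hc, hinj, hK⟩ := SuzGroup.card_suz_and_faithful
  have hr : ψ.range = SuzGroup.K := by
    rw [SuzGroup.K_eq, MonoidHom.range_eq_map, ← PresentedGroup.closure_range_of, MonoidHom.map_closure,
      SuzGroup.L, letterSub]
    congr 1
    ext g
    simp only [Set.mem_image, Set.mem_range, Set.mem_ofPred_eq, exists_exists_eq_and]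
    have hy : ∀ y : Fin 6, ψ (PresentedGroup.of y) = SuzGroup.a y.1 := fun y => by
      rw [← hψ y.1 y.2]; simp [SuzGTwo.aP, SuzGTwo.lett, PresentedGroup.of]
    constructor
    · rintro ⟨y, rfl⟩
      exact ⟨y.1, by fin_cases y <;> simp, hy y⟩
    · rintro ⟨x, hx, rfl⟩
      refine ⟨⟨x, ?_⟩, hy _⟩
      simp only [List.mem_cons, List.not_mem_nil, or_false] at hx
      omega
  have hψinj : Function.Injective ψ := by
    have hb := (Nat.bijective_iff_surjective_and_card ψ.rangeRestrict).2
      ⟨ψ.rangeRestrict_surjective, le_antisymm (by rw [hr, hK]; exact SuzGTwo.card_P.2)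
        (Nat.card_le_card_of_surjective _ ψ.rangeRestrict_surjective)⟩
    exact fun x y h => hb.1 (Subtype.ext h)
  refine ⟨SuzGroup.act.comp ψ, hinj.comp hψinj, fun x hx => ?_, fun g => ?_⟩
  · rw [MonoidHom.comp_apply, hψ x hx, act_a]
  -- the six letters generate the whole stabiliser of the first row
  obtain ⟨e, he⟩ := exists_presented_equiv Suz1782.valid Cfsg.Agent.S1680.fits
  have hsub : (SuzGroup.act.comp ψ).range ≤ G0 ⊓ MulAction.stabilizer (Equiv.Perm (Fin D.n)) z0 := by
    rintro _ ⟨p, rfl⟩
    refine ⟨⟨ψ p, rfl⟩, ?_⟩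
    have hcl : p ∈ Subgroup.closure (Set.range (PresentedGroup.of : Fin 6 → SuzGTwo.P)) := by
      rw [PresentedGroup.closure_range_of]; exact Subgroup.mem_top p
    induction hcl using Subgroup.closure_induction with
    | mem q hq =>
      obtain ⟨y, rfl⟩ := hq
      have h6 : ∀ x < 6, D.trace 0 [x] = 0 := by decide +kernel
      have : (SuzGroup.act.comp ψ) (PresentedGroup.of y) = Data.perm hV y.1 := by
        rw [show PresentedGroup.of y = SuzGTwo.aP y.1 by simp [SuzGTwo.aP, SuzGTwo.lett, PresentedGroup.of],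
          MonoidHom.comp_apply, hψ y.1 y.2, act_a]
      show (SuzGroup.act.comp ψ) (PresentedGroup.of y) z0 = z0
      rw [this]
      exact Fin.ext (h6 y.1 y.2)
    | one => simp
    | mul u v _ _ i1 i2 => rw [map_mul]; exact mul_mem i1 i2
    | inv u _ i1 =>
      rw [map_inv]
      exact (MulAction.stabilizer (Equiv.Perm (Fin D.n)) z0).inv_mem i1
  have hcard : (SuzGroup.act.comp ψ).range =
      G0 ⊓ MulAction.stabilizer (Equiv.Perm (Fin D.n)) z0 := by
    refine Subgroup.eq_of_le_of_card_ge hsub ?_
    have h1 : Nat.card (SuzGroup.act.comp ψ).range = 251596800 := by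
      have hinj2 : Function.Injective (SuzGroup.act.comp ψ) := hinj.comp hψinj
      rw [← Nat.card_congr (MonoidHom.ofInjective hinj2).toEquiv, ← hK, ← hr]
      exact Nat.card_congr (MonoidHom.ofInjective hψinj).toEquiv
    have horb : MulAction.orbit G0 z0 = Set.univ := by
      refine Set.eq_univ_of_forall fun c => ?_
      obtain ⟨g, hg⟩ := MulAction.exists_smul_eq Cfsg.Spor.Suz (e.symm z0) (e.symm c)
      refine ⟨⟨SuzGroup.act g, g, rfl⟩, ?_⟩
      have := congrArg e hg
      rw [he, e.apply_symm_apply, e.apply_symm_apply] at this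
      exact this
    have h2 : 1782 * Nat.card (MulAction.stabilizer G0 z0) = 448345497600 := by
      rw [← card_G0, ← (MulAction.stabilizer G0 z0).index_mul_card, MulAction.index_stabilizer, horb,
        Set.ncard_univ, Nat.card_eq_fintype_card (α := Fin D.n), Fintype.card_fin]
      rfl
    rw [h1]
    calc Nat.card ↥(G0 ⊓ MulAction.stabilizer (Equiv.Perm (Fin D.n)) z0)
        ≤ Nat.card (MulAction.stabilizer G0 z0) :=
          Nat.card_le_card_of_injective (fun g => ⟨⟨g.1, g.2.1⟩, g.2.2⟩) fun a b hab =>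
            Subtype.ext (congrArg (fun t : MulAction.stabilizer G0 z0 => t.1.1) hab)
      _ ≤ 251596800 := by omega
  rw [hcard]
  exact Iff.rfl

/-- The six-letter group on the rows. -/
noncomputable def φ : SuzGTwo.P →* Equiv.Perm (Fin D.n) := exists_phi.choose

theorem φ_injective : Function.Injective φ := exists_phi.choose_spec.1

theorem φ_aP {x : ℕ} (hx : x < 6) : φ (SuzGTwo.aP x) = Data.perm hV x := exists_phi.choose_spec.2.1 x hx

theorem mem_φ_range {g : Equiv.Perm (Fin D.n)} : g ∈ φ.range ↔ g ∈ G0 ∧ g z0 = z0 :=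
  exists_phi.choose_spec.2.2 g

/-- All letters below six. -/
noncomputable def small (w : List ℕ) : Bool := w.all fun x => Nat.blt x 6

/-- The element of a word. -/
noncomputable def elem (w : List ℕ) : SuzGTwo.P := (w.reverse.map SuzGTwo.aP).prod

theorem φ_elem {w : List ℕ} (h : small w = true) : φ (elem w) = gperm w := by
  unfold elem gperm
  rw [map_list_prod, List.map_map]
  refine congrArg List.prod (List.map_congr_left fun x hx => ?_)
  exact φ_aP (Nat.blt_eq.mp (List.all_eq_true.1 h x (List.mem_reverse.1 hx)))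

theorem elem_append (u v : List ℕ) : elem (u ++ v) = elem v * elem u := by
  simp [elem, List.map_append, List.prod_append]

theorem elem_eq_of_key {u v : List ℕ} (hu : small u = true) (hv : small v = true) (h : key u = key v) :
    elem u = elem v :=
  φ_injective (by rw [φ_elem hu, φ_elem hv, gperm_eq_of_key h])

theorem card_P : Nat.card SuzGTwo.P = 251596800 := by
  rw [Nat.card_congr SuzGTwo.equiv_K.some.toEquiv, SuzGroup.card_suz_and_faithful.2.2]

end CfsgLib.Recog.SuzRankThree
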