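import Cfsg.Agent.Lib.Recog.SuzRankThree.Combi

/-!
Finite subgroups given by keys and successor tables (owner: helper4).
-/

set_option autoImplicit false

namespace CfsgLib.Recog.SuzRankThree

open CfsgLib.Recog.SporBound

/-- A finite subgroup: generator words, element keys, element words, successors, the identity. -/
structure FinTable where
  /-- generators -/
  gens : List (List ℕ)
  /-- keys, increasing -/
  keys : List (List ℕ)
  /-- element words in the generators -/
  words : List (List ℕ)
  /-- successors under left multiplication by the generators -/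
  succ : List (List ℕ)
  /-- the identity -/
  one : ℕ

/-- A key as a number. -/
def packKey (k : List ℕ) : ℕ := k.foldl (fun r x => 2048 * r + x) 0

/-- A word in the given words, written out. -/
noncomputable def expand (gs : List (List ℕ)) (w : List ℕ) : List ℕ := w.flatMap fun i => gs.getD i []

theorem trace_append : ∀ (u v : List ℕ) (c : ℕ), D.trace c (u ++ v) = D.trace (D.trace c u) v
  | [], _, _ => rfl
  | x :: u, v, c => trace_append u v (D.tab c x)

namespace FinTable

variable (T : FinTable)

/-- Following successors. -/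
noncomputable def run (j : ℕ) (w : List ℕ) : ℕ := w.foldl (fun j i => (T.succ.getD j []).getD i 0) j

/-- The checks. -/
noncomputable def ok : Bool :=
  Nat.beq T.words.length T.keys.length && Nat.beq T.succ.length T.keys.length && Nat.blt T.one T.keys.length &&
  (T.keys.getD T.one [] == base) && T.gens.all small && strictInc (T.keys.map packKey) &&
  ((T.keys.zip T.succ).all fun e => (List.range T.gens.length).all fun i =>
    Nat.blt (e.2.getD i 0) T.keys.length &&
      (T.keys.getD (e.2.getD i 0) [] == e.1.map fun b => D.trace b (T.gens.getD i []))) &&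
  (((List.range T.keys.length).zip T.words).all fun e =>
    (e.2.all fun i => Nat.blt i T.gens.length) && Nat.beq (T.run T.one e.2) e.1)

/-- The element with a given index. -/
noncomputable def el (j : ℕ) : SuzGTwo.P := elem (expand T.gens (T.words.getD j []))

variable {T} (h : T.ok = true)
include h

theorem small_expand (w : List ℕ) : small (expand T.gens w) = true := by
  simp only [ok, Bool.and_eq_true] at h
  refine List.all_eq_true.2 fun x hx => ?_
  obtain ⟨i, -, hi⟩ := List.mem_flatMap.1 hx
  by_cases hl : i < T.gens.length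
  · rw [List.getD_eq_getElem _ _ hl] at hi
    exact List.all_eq_true.1 (List.all_eq_true.1 h.1.1.1.2 _ (List.getElem_mem hl)) x hi
  · rw [List.getD_eq_default _ _ (by omega)] at hi
    exact absurd hi List.not_mem_nil

theorem key_run : ∀ (w : List ℕ), (∀ i ∈ w, i < T.gens.length) →
    T.run T.one w < T.keys.length ∧ key (expand T.gens w) = T.keys.getD (T.run T.one w) [] := by
  simp only [ok, Bool.and_eq_true, Nat.beq_eq, Nat.blt_eq, beq_iff_eq] at h
  obtain ⟨⟨⟨⟨⟨⟨⟨hl1, hl2⟩, h1⟩, hk⟩, -⟩, -⟩, hc⟩, -⟩ := h
  intro w
  induction w using List.reverseRecOn with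
  | nil => exact fun _ => ⟨h1, hk ▸ List.map_id _⟩
  | append_singleton w i ih =>
    intro hw
    obtain ⟨hj, hkey⟩ := ih fun x hx => hw x (List.mem_append_left _ hx)
    set j := T.run T.one w
    have hm : j < (T.keys.zip T.succ).length := by simp; omega
    have hr := List.all_eq_true.1 (List.all_eq_true.1 hc _ (List.getElem_mem hm)) i
      (List.mem_range.2 (hw i (by simp)))
    simp only [List.getElem_zip, Bool.and_eq_true, Nat.blt_eq, beq_iff_eq] at hr
    have e : T.run T.one (w ++ [i]) = (T.succ.getD j []).getD i 0 := by simp [run, j]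
    rw [e, List.getD_eq_getElem _ _ (by omega : j < T.succ.length)]
    refine ⟨hr.1, ?_⟩
    rw [hr.2, show expand T.gens (w ++ [i]) = expand T.gens w ++ T.gens.getD i [] by simp [expand]]
    rw [← List.getD_eq_getElem (l := T.keys) (d := []) (by omega), ← hkey]
    simp only [key, List.map_map]
    refine List.map_congr_left fun b _ => ?_
    exact trace_append _ _ b

theorem el_spec {j : ℕ} (hj : j < T.keys.length) :
    key (expand T.gens (T.words.getD j [])) = T.keys.getD j [] ∧ ∀ i ∈ T.words.getD j [], i < T.gens.length := by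
  have h' := h
  simp only [ok, Bool.and_eq_true, Nat.beq_eq] at h'
  obtain ⟨⟨⟨⟨⟨⟨⟨hl1, -⟩, -⟩, -⟩, -⟩, -⟩, -⟩, hw⟩ := h'
  have hm : j < ((List.range T.keys.length).zip T.words).length := by simp; omega
  have hr := List.all_eq_true.1 hw _ (List.getElem_mem hm)
  simp only [List.getElem_zip, List.getElem_range, Bool.and_eq_true, Nat.beq_eq, List.all_eq_true, Nat.blt_eq] at hr
  rw [List.getD_eq_getElem _ _ (by omega : j < T.words.length)]
  refine ⟨?_, hr.1⟩
  have := (key_run h _ hr.1).2
  rwa [hr.2] at this

theorem el_expand {w : List ℕ} (hw : ∀ i ∈ w, i < T.gens.length) :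
    elem (expand T.gens w) = T.el (T.run T.one w) := by
  obtain ⟨hj, hk⟩ := key_run h w hw
  exact elem_eq_of_key (small_expand h w) (small_expand h _) (hk.trans (el_spec h hj).1.symm)

theorem el_mul {i j : ℕ} (hi : i < T.keys.length) (hj : j < T.keys.length) :
    ∃ k < T.keys.length, T.el i * T.el j = T.el k := by
  have hw : ∀ x ∈ T.words.getD j [] ++ T.words.getD i [], x < T.gens.length := by
    intro x hx
    rcases List.mem_append.1 hx with hx | hx
    · exact (el_spec h hj).2 x hx
    · exact (el_spec h hi).2 x hx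
  refine ⟨_, (key_run h _ hw).1, ?_⟩
  rw [← el_expand h hw, el, el, ← elem_append]
  simp [expand]

theorem el_one : T.el T.one = 1 := by
  have e := el_expand h (w := []) (by simp)
  exact e.symm.trans (by simp [expand, elem])

theorem el_inj {i j : ℕ} (hi : i < T.keys.length) (hj : j < T.keys.length) (e : T.el i = T.el j) : i = j := by
  have h' := h
  simp only [ok, Bool.and_eq_true] at h'
  have hs := nodup_of_strictInc h'.1.1.2
  have hk : T.keys.getD i [] = T.keys.getD j [] := by
    rw [← (el_spec h hi).1, ← (el_spec h hj).1]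
    refine List.map_congr_left fun b hb => ?_
    rw [← gperm_apply _ ⟨b, base_lt b hb⟩, ← gperm_apply _ ⟨b, base_lt b hb⟩, ← φ_elem (small_expand h _),
      ← φ_elem (small_expand h _)]
    exact congrArg (fun p : SuzGTwo.P => ((φ p ⟨b, base_lt b hb⟩ : Fin D.n) : ℕ)) e
  rw [List.getD_eq_getElem _ _ hi, List.getD_eq_getElem _ _ hj] at hk
  have hn : (T.keys.map packKey).Nodup := hs.imp fun hab => ne_of_lt hab
  exact (List.Nodup.getElem_inj_iff (List.Nodup.of_map _ hn)).1 hk

/-- The subgroup. -/
theorem exists_subgroup : ∃ S : Subgroup SuzGTwo.P, Nat.card S = T.keys.length ∧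
    (∀ g, g ∈ S ↔ ∃ j < T.keys.length, g = T.el j) := by
  have : Finite SuzGTwo.P := SuzGTwo.card_P.1
  have h1 : T.one < T.keys.length := by
    have h' := h
    simp only [ok, Bool.and_eq_true, Nat.blt_eq] at h'
    exact h'.1.1.1.1.1.2
  let M : Submonoid SuzGTwo.P :=
    { carrier := {g | ∃ j < T.keys.length, g = T.el j}
      one_mem' := ⟨_, h1, (el_one h).symm⟩
      mul_mem' := by
        rintro _ _ ⟨i, hi, rfl⟩ ⟨j, hj, rfl⟩
        obtain ⟨k, hk, e⟩ := el_mul h hi hj
        exact ⟨k, hk, e⟩ }
  let S : Subgroup SuzGTwo.P :=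
    { M with
      inv_mem' := fun {x} hx => by
        have : x⁻¹ ∈ Submonoid.powers x :=
          ((isOfFinOrder_of_finite x).mem_powers_iff_mem_zpowers).2 (inv_mem (Subgroup.mem_zpowers x))
        exact (Submonoid.powers_le (P := M)).2 hx this }
  refine ⟨S, ?_, fun g => Iff.rfl⟩
  have hb : Function.Bijective (fun j : Fin T.keys.length => (⟨T.el j, j, j.2, rfl⟩ : S)) :=
    ⟨fun i j hij => Fin.ext (el_inj h i.2 j.2 (congrArg Subtype.val hij)),
      fun g => by obtain ⟨j, hj, e⟩ := g.2; exact ⟨⟨j, hj⟩, Subtype.ext e.symm⟩⟩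
  rw [← Nat.card_congr (Equiv.ofBijective _ hb), Nat.card_eq_fintype_card, Fintype.card_fin]

end FinTable

end CfsgLib.Recog.SuzRankThree
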